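import Groth.Agent.JacLib.JacPoints
import Groth.Agent.S12396
import Groth.Agent.AVLib.TorsGroup

/-!
# The Picard group of a smooth proper curve: degree, divisibility, torsion
-/

set_option autoImplicit false
set_option backward.isDefEq.respectTransparency false
set_option backward.isDefEq.respectTransparency.types false
set_option linter.style.haveILetI false
set_option maxHeartbeats 1000000
set_option synthInstance.maxHeartbeats 400000

universe u

open CategoryTheory CategoryTheory.Limits AlgebraicGeometry Opposite MonObj MonoidalCategory CartesianMonoidalCategory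
open Groth.Agent.PicLib Groth.Agent.AbDualLib Groth.Agent.JacLib

noncomputable section

namespace Groth.Agent.CurveH12

attribute [local instance] Curv2.stalkAlgebra
attribute [local instance high] FunFld.Place.algRes

section Abstract

variable {k : Type u} [Field k] [IsAlgClosed k] {C : Scheme.{u}} [C.Over (Spec (CommRingCat.of k))]
  [IsProper (C ↘ Spec (CommRingCat.of k))] [IsIntegral C] [VBLib.IsRegCurve C]
  (hdim : topologicalKrullDim C = 1) (h0 : Module.finrank k (Coh.HH C (Coh.structureModule C) 0) = 1)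

include hdim h0 in
/-- The degree homomorphism of the Picard group. -/
theorem exists_degHom : ∃ d : Additive (Pic C) →+ ℤ, Function.Surjective d ∧
    ∀ {L : C.Modules} (hL : PicF.IsInvertible L), d (Additive.ofMul (cls hL)) = Curv2.deg k C L 1 := by
  have hd : ∀ (a : Pic C), ∃ z : ℤ, ∀ D, HasDiv k hdim a D → D.deg = z := fun a => by
    obtain ⟨L, hL, rfl⟩ := exists_cls a
    exact ⟨_, fun D hD => (deg_of_hasDiv hdim h0 hL hD).symm⟩
  choose z hz using hd
  let d : Additive (Pic C) →+ ℤ := AddMonoidHom.mk' (fun a => z a.toMul) fun a b => by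
    obtain ⟨D, hD⟩ := exists_hasDiv hdim h0 a.toMul
    obtain ⟨E, hE⟩ := exists_hasDiv hdim h0 b.toMul
    show z (a.toMul * b.toMul) = z a.toMul + z b.toMul
    rw [← hz _ _ (hasDiv_mul hdim hD hE), ← hz _ _ hD, ← hz _ _ hE, FF.deg_add]
  refine ⟨d, fun m => ?_, fun {L} hL => ?_⟩
  · obtain ⟨x, -⟩ := exists_closed_not_mem k hdim ∅
    refine ⟨m • Additive.ofMul (ptc (k := k) hdim x.1 x.2), ?_⟩
    rw [map_zsmul, show d (Additive.ofMul (ptc (k := k) hdim x.1 x.2)) = 1 from by
      show z (ptc (k := k) hdim x.1 x.2) = 1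
      rw [← hz _ _ (hasDiv_ptc hdim h0 x.1 x.2), FF.deg_single, deg_place hdim h0]
      norm_num]
    simp
  · obtain ⟨D, hD⟩ := exists_hasDiv hdim h0 (cls hL)
    show z (cls hL) = _
    rw [← hz _ _ hD, deg_of_hasDiv hdim h0 hL hD]

end Abstract

variable {k : Type u} [Field k] [IsAlgClosed k] (X : Scheme.{u}) [X.Over (Spec (CommRingCat.of k))]
  [IsProper (X ↘ Spec (CommRingCat.of k))] [Smooth (X ↘ Spec (CommRingCat.of k))] [IsIntegral X]
  (hdim : topologicalKrullDim X = 1)

include hdim in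
/-- Torsion and cotorsion of the Picard group. -/
theorem pic_torsion_cotorsion (n : ℕ) (hn : 1 ≤ n) (hnk : (n : k) ≠ 0) :
    Nonempty ((nsmulAddMonoidHom n : Additive (Pic X) →+ _).ker ≃+ (Fin (2 * Curv2.genus k X) → ZMod n)) ∧
      ∃ ψ : Additive (Pic X) →+ ZMod n, Function.Surjective ψ ∧
        ψ.ker = (nsmulAddMonoidHom n : Additive (Pic X) →+ _).range := by
  let f := X ↘ Spec (CommRingCat.of k)
  haveI hgc : GeometricallyConnected f := geometricallyConnected_of_sepClosed (k := k) (X := X)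
  obtain ⟨σ, hσ, -⟩ := exists_section_avoid (k := k) (X := X) hdim Set.finite_empty
  have hdf := fiber_dim (k := k) X hdim
  obtain ⟨J, x, G, hG, ⟨hx, hxz, hu⟩, h1, h2, h3, h4, h5, hmul⟩ := exists_jacobian_av X hdim σ hσ
  let T₀ : Over (Spec (CommRingCat.of k)) := 𝟙_ (Over (Spec (CommRingCat.of k)))
  haveI : IsIso T₀.hom := inferInstanceAs (IsIso (𝟙 _))
  let p : PicF.XT f T₀ ⟶ X := pullback.fst f T₀.hom
  have hp : Function.Bijective (pull p) :=
    Function.bijective_iff_has_inverse.2 ⟨pull (inv p), fun a => by rw [← pull_comp, IsIso.inv_hom_id, pull_id],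
      fun a => by rw [← pull_comp, IsIso.hom_inv_id, pull_id]⟩
  let π : Additive (Pic X) ≃+ Additive (Pic (PicF.XT f T₀)) := MulEquiv.toAdditive (MulEquiv.ofBijective (pull p) hp)
  let Ψ : Additive (T₀ ⟶ J) →+ Additive (Pic X) := π.symm.toAddMonoidHom.comp
    (MonoidHom.toAdditive (MonoidHom.mk' (fun g => pull (PicF.XTmap f g) x) (hmul T₀)))
  have hπΨ : ∀ g : Additive (T₀ ⟶ J), π (Ψ g) = Additive.ofMul (pull (PicF.XTmap f g.toMul) x) :=
    fun g => π.apply_symm_apply _
  have hrig : ∀ a : Pic (PicF.XT f T₀), pull (PicF.secT f σ hσ T₀) a = 1 :=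
    fun a => eq_one_of_local (R := CommRingCat.of k) _
  have hΨ : Function.Injective Ψ := fun a b h => by
    have h' : pull (PicF.XTmap f a.toMul) x = pull (PicF.XTmap f b.toMul) x :=
      congrArg Additive.toMul ((hπΨ a).symm.trans ((congrArg π h).trans (hπΨ b)))
    exact congrArg Additive.ofMul ((hu T₀ _ (hrig _) (isPZc_pull f hdf b.toMul hxz)).unique h' rfl)
  -- degree on `X ×_k k`
  letI : (PicF.XT f (Over.mk (𝟙 (Spec (CommRingCat.of k))))).Over (Spec (CommRingCat.of k)) :=
    ⟨PicF.XTproj f (Over.mk (𝟙 (Spec (CommRingCat.of k))))⟩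
  let X' := PicF.XT f (Over.mk (𝟙 (Spec (CommRingCat.of k))))
  haveI : IsProper (X' ↘ Spec (CommRingCat.of k)) := isProper_XT f (𝟙 _)
  haveI : SmoothOfRelativeDimension 1 f := smoothOfRelativeDimension_one f hdf
  haveI : Smooth (X' ↘ Spec (CommRingCat.of k)) := smooth_XT f (𝟙 _)
  haveI : GeometricallyConnected (X' ↘ Spec (CommRingCat.of k)) := geometricallyConnected_XT f (𝟙 _)
  have hd' : topologicalKrullDim X' = 1 := dim_XT f (𝟙 _) hdf
  obtain ⟨hint, hreg, h0⟩ := setup_of_smooth_connected k X' hd'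
  haveI := hint
  haveI := hreg
  obtain ⟨d, hds, hdeg⟩ := exists_degHom (k := k) (C := X') hd' h0
  let D : Additive (Pic X) →+ ℤ := (d : Additive (Pic X') →+ ℤ).comp π.toAddMonoidHom
  have hDs : Function.Surjective D := hds.comp π.surjective
  have hzero : ∀ a : Pic (PicF.XT f T₀), d (Additive.ofMul a) = 0 ↔ IsPZc f T₀ a := by
    intro a
    obtain ⟨M, hM, rfl⟩ := exists_cls a
    rw [isPZc_iff f hdf _ hM, hdeg hM]
    constructor
    · intro h t
      rw [← h]
      exact deg_eq hd'.le hM t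
    · intro h
      rw [← deg_eq hd'.le hM (IsLocalRing.closedPoint k)]
      exact h _
  have hker : ∀ a, D a = 0 ↔ a ∈ Set.range Ψ := fun a => by
    constructor
    · intro h
      obtain ⟨g, hg, -⟩ := hu T₀ (π a).toMul (hrig _) ((hzero _).1 h)
      exact ⟨Additive.ofMul g, π.injective ((hπΨ _).trans (congrArg Additive.ofMul hg))⟩
    · rintro ⟨g, rfl⟩
      show d (π (Ψ g)) = 0
      rw [hπΨ]
      exact (hzero _).2 (isPZc_pull f hdf g.toMul hxz)
  have hdivJ : ∀ (m : ℕ), 1 ≤ m → ∀ g : Additive (T₀ ⟶ J), ∃ h, m • h = g := fun m hm g => by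
    obtain ⟨b, hb⟩ := AVLib.exists_npow_eq (A := J) m hm g.toMul
    exact ⟨Additive.ofMul b, hb⟩
  haveI : NeZero n := ⟨by omega⟩
  refine ⟨?_, (Int.castAddHom (ZMod n)).comp D, (ZMod.intCast_surjective).comp hDs, ?_⟩
  · have hdk : ∀ d : ℕ, d ∣ n → (d : k) ≠ 0 := fun d ⟨c, hc⟩ h => hnk (by rw [hc, Nat.cast_mul, h, zero_mul])
    obtain ⟨e⟩ := AVLib.TorsGroup.nonempty_equiv (M := Additive (T₀ ⟶ J)) (r := 2 * Curv2.genus k X) n (by omega)
      (fun q hq _ => hdivJ q hq.one_le) (fun d hdn => by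
        exact (Nat.card_congr (Equiv.subtypeEquiv Additive.toMul fun _ => Iff.rfl)).trans
          ((AVLib.natCard_pow_eq_one (A := J) h5 d (hdk d hdn)).2))
    let Φ : AVLib.TorsGroup.tors (Additive (T₀ ⟶ J)) n →+ (nsmulAddMonoidHom n : Additive (Pic X) →+ _).ker :=
      (Ψ.comp (AddSubgroup.subtype _)).codRestrict _ fun y => by
        show n • Ψ y.1 = 0
        rw [← map_nsmul, show n • y.1 = 0 from y.2, map_zero]
    have hΦ : Function.Bijective Φ := by
      refine ⟨fun a b h => Subtype.ext (hΨ (congrArg Subtype.val h)), ?_⟩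
      rintro ⟨a, ha⟩
      have ha' : n • a = 0 := ha
      have hDa : D a = 0 := by
        have h := map_nsmul D n a
        rw [ha', map_zero, nsmul_eq_mul] at h
        exact (mul_eq_zero.1 h.symm).resolve_left (Nat.cast_ne_zero.2 (by omega))
      obtain ⟨g, rfl⟩ := (hker a).1 hDa
      exact ⟨⟨g, hΨ (by rw [nsmulAddMonoidHom_apply, map_nsmul, map_zero]; exact ha')⟩, rfl⟩
    exact ⟨(AddEquiv.ofBijective Φ hΦ).symm.trans e⟩
  · ext a
    simp only [AddMonoidHom.mem_ker, AddMonoidHom.comp_apply, Int.coe_castAddHom, AddMonoidHom.mem_range,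
      nsmulAddMonoidHom_apply]
    constructor
    · intro h
      obtain ⟨m, hm⟩ := (ZMod.intCast_zmod_eq_zero_iff_dvd _ _).1 h
      obtain ⟨b, hb⟩ := hDs m
      have h0' : D (a - n • b) = 0 := by rw [map_sub, map_nsmul, hm, hb, nsmul_eq_mul, sub_self]
      obtain ⟨g, hg⟩ := (hker _).1 h0'
      obtain ⟨c, rfl⟩ := hdivJ n hn g
      rw [map_nsmul] at hg
      exact ⟨Ψ c + b, by rw [nsmul_add, hg, sub_add_cancel]⟩
    · rintro ⟨b, rfl⟩
      rw [map_nsmul]
      simp

end Groth.Agent.CurveH12
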