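import Groth.Prelude.Def_SixF3

/-!
# The Kummer sequence in low degrees
-/

set_option autoImplicit false
set_option backward.isDefEq.respectTransparency false
set_option linter.style.haveILetI false
set_option synthInstance.maxHeartbeats 400000

universe u

open CategoryTheory CategoryTheory.Limits AlgebraicGeometry Opposite CategoryTheory.Abelian

noncomputable section

namespace Groth.Agent.CurveH12

variable {X : Scheme.{u}} {n : ℕ}

/-- The map `H^i(μ_n) → H^i(G_m)`. -/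
def muH (X : Scheme.{u}) (n i : ℕ) : EtCoh.H X (EtCoh.mu X n) i →+ EtCoh.H X (EtCoh.Gm X) i :=
  (Ext.mk₀ (EtSix.kummerSC X n).f).postcomp _ (add_zero i)

theorem pow_comp (i : ℕ) (z : EtCoh.H X (EtCoh.Gm X) i) :
    z.comp (Ext.mk₀ (EtSix.kummerSC X n).g) (add_zero i) = n • z := by
  show z.comp (Ext.mk₀ (n • 𝟙 (EtCoh.Gm X))) (add_zero i) = n • z
  have e1 : Ext.mk₀ (n • 𝟙 (EtCoh.Gm X)) = n • Ext.mk₀ (𝟙 (EtCoh.Gm X)) :=
    map_nsmul Ext.addEquiv₀.symm n (𝟙 (EtCoh.Gm X))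
  rw [e1]
  refine (map_nsmul (Ext.bilinearComp _ _ _ i 0 i (add_zero i) z) n _).trans ?_
  exact congrArg (n • ·) (Ext.comp_mk₀_id z)

theorem muH_mem (i : ℕ) (y : EtCoh.H X (EtCoh.mu X n) i) :
    muH X n i y ∈ (nsmulAddMonoidHom n : EtCoh.H X (EtCoh.Gm X) i →+ _).ker := by
  show n • muH X n i y = 0
  rw [← pow_comp]
  show (y.comp (Ext.mk₀ (EtSix.kummerSC X n).f) (add_zero i)).comp _ _ = 0
  rw [Ext.comp_assoc_of_second_deg_zero, Ext.mk₀_comp_mk₀, (EtSix.kummerSC X n).zero, Ext.mk₀_zero, Ext.comp_zero]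

/-- The map to the torsion. -/
def muHTors (X : Scheme.{u}) (n i : ℕ) :
    EtCoh.H X (EtCoh.mu X n) i →+ (nsmulAddMonoidHom n : EtCoh.H X (EtCoh.Gm X) i →+ _).ker :=
  (muH X n i).codRestrict _ (muH_mem i)

theorem surjective_muHTors (h : Epi (EtCoh.powMap X n)) (i : ℕ) : Function.Surjective (muHTors X n i) := by
  rintro ⟨x, hx⟩
  obtain ⟨y, hy⟩ := Ext.covariant_sequence_exact₂ _ (EtSix.kummerShortExact h) x ((pow_comp i x).trans hx)
  exact ⟨y, Subtype.ext hy⟩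

theorem injective_muH_zero : Function.Injective (muH X n 0) := by
  intro a b hab
  obtain ⟨a', rfl⟩ := Ext.addEquiv₀.symm.surjective a
  obtain ⟨b', rfl⟩ := Ext.addEquiv₀.symm.surjective b
  change (Ext.mk₀ a').comp (Ext.mk₀ (EtSix.kummerSC X n).f) (add_zero 0) =
    (Ext.mk₀ b').comp (Ext.mk₀ (EtSix.kummerSC X n).f) (add_zero 0) at hab
  rw [Ext.mk₀_comp_mk₀, Ext.mk₀_comp_mk₀] at hab
  have h2 : a' ≫ (EtSix.kummerSC X n).f = b' ≫ (EtSix.kummerSC X n).f := Ext.addEquiv₀.symm.injective hab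
  rw [cancel_mono] at h2
  rw [h2]

/-- `H^0(μ_n)` is the torsion of `H^0(G_m)`. -/
theorem nonempty_H0_mu (h : Epi (EtCoh.powMap X n)) :
    Nonempty (EtCoh.H X (EtCoh.mu X n) 0 ≃+ (nsmulAddMonoidHom n : EtCoh.H X (EtCoh.Gm X) 0 →+ _).ker) :=
  ⟨AddEquiv.ofBijective (muHTors X n 0)
    ⟨fun _ _ e => injective_muH_zero (congrArg Subtype.val e), surjective_muHTors h 0⟩⟩

/-- `H^1(μ_n)` is the torsion of `H^1(G_m)` when the global units are `n`-divisible. -/
theorem nonempty_H1_mu (h : Epi (EtCoh.powMap X n))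
    (hdiv : ∀ z : EtCoh.H X (EtCoh.Gm X) 0, ∃ w, n • w = z) :
    Nonempty (EtCoh.H X (EtCoh.mu X n) 1 ≃+ (nsmulAddMonoidHom n : EtCoh.H X (EtCoh.Gm X) 1 →+ _).ker) := by
  have hS := EtSix.kummerShortExact h
  refine ⟨AddEquiv.ofBijective (muHTors X n 1) ⟨(injective_iff_map_eq_zero _).2 fun x hx => ?_,
    surjective_muHTors h 1⟩⟩
  obtain ⟨z, rfl⟩ := Ext.covariant_sequence_exact₁ _ hS x (congrArg Subtype.val hx) (n₀ := 0) rfl
  obtain ⟨w, rfl⟩ := hdiv z
  rw [← pow_comp 0 w, Ext.comp_assoc_of_second_deg_zero, hS.comp_extClass, Ext.comp_zero]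

theorem nonempty_equiv_quot {A B : Type*} [AddCommGroup A] [AddCommGroup B] (δ : A →+ B) (N : AddSubgroup A)
    (hs : Function.Surjective δ) (hk : δ.ker = N) : Nonempty (B ≃+ A ⧸ N) :=
  ⟨(QuotientAddGroup.quotientKerEquivOfSurjective δ hs).symm.trans (QuotientAddGroup.quotientAddEquivOfEq hk)⟩

/-- `H^2(μ_n)` is `H^1(G_m)` modulo `n` when `H^2(G_m) = 0`. -/
theorem nonempty_H2_mu (h : Epi (EtCoh.powMap X n)) (h2 : Subsingleton (EtCoh.H X (EtCoh.Gm X) 2)) :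
    Nonempty (EtCoh.H X (EtCoh.mu X n) 2 ≃+
      EtCoh.H X (EtCoh.Gm X) 1 ⧸ (nsmulAddMonoidHom n : EtCoh.H X (EtCoh.Gm X) 1 →+ _).range) := by
  have hS := EtSix.kummerShortExact h
  let δ := EtSix.kummerBoundary h 1
  have hsurj : Function.Surjective δ := fun x =>
    Ext.covariant_sequence_exact₁ _ hS x (@Subsingleton.elim _ h2 _ _) (n₀ := 1) rfl
  have hker : δ.ker = (nsmulAddMonoidHom n : EtCoh.H X (EtCoh.Gm X) 1 →+ _).range := by
    refine le_antisymm (fun y hy => ?_) ?_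
    · obtain ⟨z, hz⟩ := Ext.covariant_sequence_exact₃ _ hS y (n₁ := 2) rfl hy
      exact ⟨z, (pow_comp 1 z).symm.trans hz⟩
    · rintro _ ⟨z, rfl⟩
      show (n • z).comp hS.extClass rfl = 0
      rw [← pow_comp 1 z, Ext.comp_assoc_of_second_deg_zero, hS.comp_extClass, Ext.comp_zero]
  exact nonempty_equiv_quot δ _ hsurj hker

/-- An equivalence carries torsion to torsion. -/
def torsEquiv {A B : Type*} [AddCommGroup A] [AddCommGroup B] (e : A ≃+ B) (n : ℕ) :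
    (nsmulAddMonoidHom n : A →+ A).ker ≃+ (nsmulAddMonoidHom n : B →+ B).ker where
  toFun x := ⟨e x.1, by show n • e x.1 = 0; rw [← map_nsmul, show n • x.1 = 0 from x.2, map_zero]⟩
  invFun x := ⟨e.symm x.1, by show n • e.symm x.1 = 0; rw [← map_nsmul, show n • x.1 = 0 from x.2, map_zero]⟩
  left_inv x := Subtype.ext (e.symm_apply_apply x.1)
  right_inv x := Subtype.ext (e.apply_symm_apply x.1)
  map_add' x y := Subtype.ext (map_add e x.1 y.1)

/-- An equivalence carries quotients by multiples to quotients by multiples. -/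
theorem nonempty_quot_equiv {A B : Type*} [AddCommGroup A] [AddCommGroup B] (e : A ≃+ B) (n : ℕ) :
    Nonempty (A ⧸ (nsmulAddMonoidHom n : A →+ A).range ≃+ B ⧸ (nsmulAddMonoidHom n : B →+ B).range) := by
  refine ⟨QuotientAddGroup.congr _ _ e ?_⟩
  ext y
  simp only [AddSubgroup.mem_map, AddMonoidHom.mem_range, nsmulAddMonoidHom_apply]
  constructor
  · rintro ⟨x, ⟨w, rfl⟩, rfl⟩
    exact ⟨e w, (map_nsmul e n w).symm⟩
  · rintro ⟨w, rfl⟩
    exact ⟨n • e.symm w, ⟨e.symm w, rfl⟩, by simp⟩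

end Groth.Agent.CurveH12
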