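import Groth.Agent.CurveH12.Pic
import Groth.Agent.CurveH12.Kummer
import Groth.Agent.CurveH12.Deg
import Groth.Agent.AVLib.Const
import Groth.Agent.S0108
import Groth.Agent.S0227
import Groth.Agent.S13507

/-!
# The cohomology of `μ_n` and `ℤ/n` on a smooth proper curve
-/

set_option autoImplicit false
set_option backward.isDefEq.respectTransparency false
set_option backward.isDefEq.respectTransparency.types false
set_option linter.style.haveILetI false
set_option maxHeartbeats 1000000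
set_option synthInstance.maxHeartbeats 400000

universe u

open CategoryTheory CategoryTheory.Limits AlgebraicGeometry Opposite

noncomputable section

namespace Groth.Agent.CurveH12

/-- `H^0(G_m)` is the group of global units. -/
def H0Gm (X : Scheme.{u}) : EtCoh.H X (EtCoh.Gm X) 0 ≃+ Additive Γ(X, ⊤)ˣ :=
  (Sheaf.H.equiv₀ (EtCoh.Gm X) (EtCore.topIsTerminal X)).trans
    (AddEquiv.ulift : ULift.{u + 1} (Additive Γ(X, ⊤)ˣ) ≃+ Additive Γ(X, ⊤)ˣ)

variable {k : Type u} [Field k]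

/-- The constants in the functions. -/
def constHom {X : Scheme.{u}} (f : X ⟶ Spec (CommRingCat.of k)) : k →+* Γ(X, ⊤) :=
  ((Scheme.ΓSpecIso (CommRingCat.of k)).inv ≫ f.appTop).hom

theorem isUnit_natCast_gamma {X : Scheme.{u}} (f : X ⟶ Spec (CommRingCat.of k)) {n : ℕ} (hn : (n : k) ≠ 0) :
    IsUnit (n : Γ(X, ⊤)) := by
  rw [← map_natCast (constHom f) n]
  exact (IsUnit.mk0 _ hn).map _

/-- `μ_n` is constant over an algebraically closed field. -/
theorem nonempty_mu_iso_const [IsAlgClosed k] {X : Scheme.{u}} (f : X ⟶ Spec (CommRingCat.of k)) {n : ℕ}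
    (hn : 1 ≤ n) (hnk : (n : k) ≠ 0) : Nonempty (EtCoh.mu X n ≅ EtCoh.const X (ZMod n)) := by
  obtain ⟨ζ, hζ⟩ := IsAlgClosed.exists_aeval_eq_zero k ((Polynomial.cyclotomic n ℤ).map (Int.castRingHom k))
    (by rw [Polynomial.map_cyclotomic, Polynomial.degree_cyclotomic]; exact_mod_cast (Nat.totient_pos.2 hn).ne')
  refine Groth.Agent.S13507.nonempty_mu_iso_const X n hn (isUnit_natCast_gamma f hnk) (constHom f ζ) ?_
  rw [Polynomial.aeval_def, RingHom.ext_int (algebraMap ℤ Γ(X, ⊤)) ((constHom f).comp (Int.castRingHom k)),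
    ← Polynomial.hom_eval₂]
  rw [Polynomial.aeval_def, Polynomial.eval₂_map] at hζ
  rw [RingHom.ext_int (Int.castRingHom k) ((algebraMap k k).comp (Int.castRingHom k)), hζ, map_zero]

/-- The cohomology of `μ_n` in degrees one and two on a smooth proper curve. -/
theorem nonempty_H_mu [IsAlgClosed k] (X : Scheme.{u}) [X.Over (Spec (CommRingCat.of k))]
    [IsProper (X ↘ Spec (CommRingCat.of k))] [Smooth (X ↘ Spec (CommRingCat.of k))] [IsIntegral X]
    (hdim : topologicalKrullDim X = 1) (n : ℕ) (hn : 1 ≤ n) (hnk : (n : k) ≠ 0) :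
    Nonempty (EtCoh.H X (EtCoh.mu X n) 1 ≃+ (Fin (2 * Curv2.genus k X) → ZMod n)) ∧
      Nonempty (EtCoh.H X (EtCoh.mu X n) 2 ≃+ ZMod n) := by
  let f := X ↘ Spec (CommRingCat.of k)
  have hepi := Groth.Agent.S0108.result X n (isUnit_natCast_gamma f hnk)
  have hdiv : ∀ z : EtCoh.H X (EtCoh.Gm X) 0, ∃ w, n • w = z := fun z => by
    obtain ⟨c, hc⟩ := AVLib.surjective_appTop_of_isAlgClosed f ((H0Gm X z).toMul : Γ(X, ⊤))
    change constHom f c = _ at hc
    obtain ⟨r, hr⟩ := IsAlgClosed.exists_pow_nat_eq c (by omega : 0 < n)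
    have hu : IsUnit (constHom f r) := (isUnit_pow_iff (by omega : n ≠ 0)).1 (by
      rw [← map_pow, hr, hc]; exact Units.isUnit _)
    refine ⟨(H0Gm X).symm (Additive.ofMul hu.unit), (H0Gm X).injective ?_⟩
    rw [map_nsmul, AddEquiv.apply_symm_apply]
    refine congrArg Additive.ofMul (show hu.unit ^ n = (H0Gm X z).toMul from Units.ext ?_)
    rw [Units.val_pow_eq_pow_val, IsUnit.unit_spec, ← map_pow, hr, hc]
  obtain ⟨⟨e1⟩, ψ, hψs, hψk⟩ := pic_torsion_cotorsion X hdim n hn hnk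
  obtain ⟨eP⟩ := nonempty_pic_H1 X
  obtain ⟨a1⟩ := nonempty_H1_mu hepi hdiv
  obtain ⟨a2⟩ := nonempty_H2_mu hepi (Groth.Agent.S0227.result k X f hdim 2 le_rfl)
  obtain ⟨q⟩ := nonempty_quot_equiv eP.symm n
  obtain ⟨r⟩ := nonempty_equiv_quot ψ _ hψs hψk
  exact ⟨⟨a1.trans ((torsEquiv eP.symm n).trans e1)⟩, ⟨a2.trans (q.trans r.symm)⟩⟩

/-- The cohomology of `ℤ/n` in degrees one and two on a smooth proper curve. -/
theorem nonempty_H_const [IsAlgClosed k] (X : Scheme.{u}) [X.Over (Spec (CommRingCat.of k))]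
    [IsProper (X ↘ Spec (CommRingCat.of k))] [Smooth (X ↘ Spec (CommRingCat.of k))] [IsIntegral X]
    (hdim : topologicalKrullDim X = 1) (n : ℕ) (hn : 1 ≤ n) (hnk : (n : k) ≠ 0) :
    Nonempty (EtCoh.H X (EtCoh.const X (ZMod n)) 1 ≃+ (Fin (2 * Curv2.genus k X) → ZMod n)) ∧
      Nonempty (EtCoh.H X (EtCoh.const X (ZMod n)) 2 ≃+ ZMod n) := by
  obtain ⟨i⟩ := nonempty_mu_iso_const (X ↘ Spec (CommRingCat.of k)) hn hnk
  obtain ⟨⟨a⟩, ⟨b⟩⟩ := nonempty_H_mu X hdim n hn hnk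
  exact ⟨⟨((Sheaf.functorH _ 1).mapIso i).addCommGroupIsoToAddEquiv.symm.trans a⟩,
    ⟨((Sheaf.functorH _ 2).mapIso i).addCommGroupIsoToAddEquiv.symm.trans b⟩⟩

end Groth.Agent.CurveH12
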