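import Groth.Agent.CurveH12.Open
import Groth.Agent.CurveH12.Main
import Groth.Agent.RelTildeLib.Period
import Groth.Agent.S0234

/-!
# The Picard group of an open part of a smooth proper curve is divisible; `H^0` and `H^{≥ 2}` of `μ_n`
-/

set_option autoImplicit false
set_option backward.isDefEq.respectTransparency false
set_option backward.isDefEq.respectTransparency.types false
set_option linter.style.haveILetI false
set_option maxHeartbeats 1000000
set_option synthInstance.maxHeartbeats 400000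

universe u

open CategoryTheory CategoryTheory.Limits AlgebraicGeometry TopologicalSpace Opposite
open Groth.Agent.PicLib Groth.Agent.CurveFF

noncomputable section

namespace Groth.Agent.CurveH12

attribute [local instance] Curv2.stalkAlgebra
attribute [local instance high] FunFld.Place.algRes

variable {k : Type u} [Field k] [IsAlgClosed k] (X : Scheme.{u}) [X.Over (Spec (CommRingCat.of k))]
  [IsProper (X ↘ Spec (CommRingCat.of k))] [Smooth (X ↘ Spec (CommRingCat.of k))] [IsIntegral X]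
  (hdim : topologicalKrullDim X = 1)

include hdim in
/-- The class of a point outside an open is trivial on that open. -/
theorem pull_ptc_eq_one [VBLib.IsRegCurve X] (U : X.Opens) (x : X) (hx : IsClosed ({x} : Set X)) (hxU : x ∉ U) :
    pull U.ι (JacLib.ptc (k := k) hdim x hx) = 1 := by
  haveI := EulerIneqLib.isNoetherian_proper (X := X) k
  let J := Scheme.IdealSheafData.vanishingIdeal (⟨{x}, hx⟩ : Closeds X)
  let i := ClSub.idealModι J
  haveI : Mono i := by show Mono (ClSub.idealModι J); unfold ClSub.idealModι; infer_instance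
  have hbij : ∀ y ∈ U, Function.Bijective (PullbackMod.stalkLin i y) := fun y hy => by
    refine ⟨(PullbackMod.mono_iff_stalk _).1 inferInstance y, fun z => ?_⟩
    obtain ⟨r, rfl⟩ := (ParaFLib.bijective_oneG y).2 z
    refine (HilbObsLib.mem_range_idealModι J y r).2 ?_
    rw [(stalkIdeal_point hx).2 y (fun h => hxU (h ▸ hy))]
    trivial
  haveI := RelTildeLib.isIso_restrict_of_stalk i U hbij
  rw [JacLib.ptc, map_inv, pull_cls, inv_eq_one, PicLib.cls_eq_one]
  exact ⟨((Scheme.Modules.restrictFunctorIsoPullback U.ι).app _).symm ≪≫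
    asIso ((Scheme.Modules.restrictFunctor U.ι).map i) ≪≫ (Scheme.Modules.restrictFunctorIsoPullback U.ι).app _ ≪≫
    AmpleLib.pullO U.ι⟩

include hdim in
/-- A class of degree divisible by `n` is an `n`-th power. -/
theorem exists_nsmul_eq_of_dvd_deg (n : ℕ) (hn : 1 ≤ n) (hnk : (n : k) ≠ 0) (d : Additive (Pic X) →+ ℤ)
    (hd : Function.Surjective d) (a : Additive (Pic X)) (ha : (n : ℤ) ∣ d a) : ∃ b, n • b = a := by
  haveI : NeZero n := ⟨by omega⟩
  obtain ⟨-, ψ, hψs, hψk⟩ := pic_torsion_cotorsion X hdim n hn hnk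
  let N : AddSubgroup (Additive (Pic X)) := (nsmulAddMonoidHom n : Additive (Pic X) →+ _).range
  obtain ⟨e⟩ := nonempty_equiv_quotient ψ N hψs hψk
  haveI : Finite (Additive (Pic X) ⧸ N) := Finite.of_equiv _ e.toEquiv
  let α : Additive (Pic X) →+ ZMod n := (Int.castAddHom (ZMod n)).comp d
  have hker : N ≤ α.ker := by
    rintro _ ⟨b, rfl⟩
    show ((d (n • b) : ℤ) : ZMod n) = 0
    simp
  let γ : Additive (Pic X) ⧸ N →+ ZMod n := QuotientAddGroup.lift N α hker
  have hγs : Function.Surjective γ := fun c => by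
    obtain ⟨b, hb⟩ := hd (c.val : ℤ)
    refine ⟨QuotientAddGroup.mk b, ?_⟩
    show ((d b : ℤ) : ZMod n) = c
    rw [hb, Int.cast_natCast, ZMod.natCast_zmod_val]
  have hγi : Function.Injective γ :=
    ((Nat.bijective_iff_surjective_and_card γ).2 ⟨hγs, (Nat.card_congr e.toEquiv).symm.trans rfl⟩).1
  exact (QuotientAddGroup.eq_zero_iff a).1 (hγi (by
    rw [map_zero]
    exact (ZMod.intCast_zmod_eq_zero_iff_dvd _ _).2 ha))

include hdim in
/-- The Picard group of a proper open part of the curve is divisible. -/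
theorem exists_pow_eq_pic_open (U : X.Opens) (x : X) (hx : IsClosed ({x} : Set X)) (hxU : x ∉ U) (n : ℕ) (hn : 1 ≤ n)
    (hnk : (n : k) ≠ 0) (a : Pic (U : Scheme.{u})) : ∃ b, b ^ n = a := by
  obtain ⟨hreg, h0⟩ := JacLib.setup_sepClosed (k := k) (X := X) hdim
  haveI := hreg
  haveI := EtTraceLib.locallyNoetherian_over k (X ↘ Spec (CommRingCat.of k))
  obtain ⟨L, hL, rfl⟩ := exists_cls a
  obtain ⟨M, hM, ⟨φ⟩⟩ := S0234.result X U L hL fun y _ => by
    haveI := EtTraceLib.regular_of_smooth_over k (X ↘ Spec (CommRingCat.of k)) y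
    haveI := Groth.Agent.RegLocal.isDomain (X.presheaf.stalk y)
    exact Groth.Agent.RegLocal.ufd (X.presheaf.stalk y)
  obtain ⟨d, hds, hdeg⟩ := exists_degHom (k := k) (C := X) hdim h0
  let p := JacLib.ptc (k := k) hdim x hx
  have hp : d (Additive.ofMul p) = 1 := by
    obtain ⟨P, hP, hp'⟩ := exists_cls p
    have hPD : JacLib.HasDiv k hdim (cls hP) (Finsupp.single (placeOf k hdim x hx) 1) := by
      rw [hp']
      exact JacLib.hasDiv_ptc hdim h0 x hx
    rw [← hp', hdeg hP, JacLib.deg_of_hasDiv hdim h0 hP hPD, FF.deg_single,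
      JacLib.deg_place hdim h0]
    norm_num
  obtain ⟨b, hb⟩ := exists_nsmul_eq_of_dvd_deg X hdim n hn hnk d hds
    (Additive.ofMul (cls hM) - d (Additive.ofMul (cls hM)) • Additive.ofMul p) (by
      rw [map_sub, map_zsmul, hp, zsmul_eq_mul, mul_one, Int.cast_eq, sub_self]
      exact dvd_zero _)
  refine ⟨pull U.ι b.toMul, ?_⟩
  rw [← map_pow, show b.toMul ^ n = cls hM / p ^ d (Additive.ofMul (cls hM)) from congrArg Additive.toMul hb, map_div,
    map_zpow, pull_ptc_eq_one X hdim U x hx hxU, one_zpow, div_one, pull_cls]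
  exact (cls_eq_cls _ _).2 ⟨(Scheme.Modules.restrictFunctorIsoPullback U.ι).symm.app M ≪≫ φ⟩

theorem subsingleton_quot_of_divisible {A : Type*} [AddCommGroup A] (n : ℕ) (h : ∀ a : A, ∃ b, n • b = a) :
    Subsingleton (A ⧸ (nsmulAddMonoidHom n : A →+ A).range) :=
  subsingleton_of_forall_eq 0 fun y => by
    obtain ⟨z, rfl⟩ := QuotientAddGroup.mk_surjective y
    exact (QuotientAddGroup.eq_zero_iff _).2 (h z)

/-- The roots of unity in a domain over an algebraically closed field are those of the field. -/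
theorem nonempty_torsion_units_equiv {K R : Type u} [Field K] [IsAlgClosed K] [CommRing R] [IsDomain R]
    (φ : K →+* R) (n : ℕ) (hn : 1 ≤ n) (hnk : (n : K) ≠ 0) :
    Nonempty ((nsmulAddMonoidHom n : Additive Rˣ →+ _).ker ≃+ Additive ↥(rootsOfUnity n K)) := by
  haveI : NeZero n := ⟨by omega⟩
  haveI : NeZero (n : K) := ⟨hnk⟩
  let ψ : Additive ↥(rootsOfUnity n K) →+ (nsmulAddMonoidHom n : Additive Rˣ →+ _).ker :=
    AddMonoidHom.mk' (fun z => ⟨Additive.ofMul (Units.map φ.toMonoidHom z.toMul.1), by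
      show n • Additive.ofMul (Units.map φ.toMonoidHom z.toMul.1) = 0
      rw [← ofMul_pow, ← map_pow, (mem_rootsOfUnity n _).1 z.toMul.2, map_one, ofMul_one]⟩)
      fun z w => Subtype.ext (congrArg Additive.ofMul (map_mul (Units.map φ.toMonoidHom) z.toMul.1 w.toMul.1))
  refine ⟨(AddEquiv.ofBijective ψ ⟨fun z w h => ?_, ?_⟩).symm⟩
  · exact Additive.toMul.injective (Subtype.ext (Units.map_injective φ.injective (congrArg Subtype.val h)))
  · rintro ⟨u, hu⟩
    obtain ⟨ζ, hζ⟩ := HasEnoughRootsOfUnity.exists_primitiveRoot K n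
    have hζR : IsPrimitiveRoot (φ ζ) n := hζ.map_of_injective φ.injective
    have hu' : ((u.toMul : Rˣ) : R) ^ n = 1 := by
      rw [← Units.val_pow_eq_pow_val, show u.toMul ^ n = 1 from congrArg Additive.toMul hu, Units.val_one]
    obtain ⟨i, -, hi⟩ := hζR.eq_pow_of_pow_eq_one hu'
    refine ⟨Additive.ofMul ⟨(hζ.isUnit (by omega)).unit ^ i, (mem_rootsOfUnity n _).2 (Units.ext ?_)⟩,
      Subtype.ext (congrArg Additive.ofMul (Units.ext ?_))⟩
    · rw [Units.val_pow_eq_pow_val, Units.val_pow_eq_pow_val, IsUnit.unit_spec, ← pow_mul, mul_comm, pow_mul,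
        hζ.pow_eq_one, one_pow, Units.val_one]
    · show φ ((((hζ.isUnit (by omega)).unit ^ i : Kˣ)) : K) = _
      rw [Units.val_pow_eq_pow_val, IsUnit.unit_spec, map_pow, hi]
      rfl

include hdim in
/-- `H^0(U, μ_n)` and `H^{≥ 2}(U, μ_n)` for the complement of finitely many points. -/
theorem H0_and_Hge2_mu_open (U : X.Opens) (r : ℕ) (hr : 1 ≤ r) (hUc : ((U : Set X)ᶜ).Finite)
    (hUr : Nat.card ↥((U : Set X)ᶜ) = r) (n : ℕ) (hn : 1 ≤ n) (hnk : (n : k) ≠ 0) :
    Nonempty (EtCoh.H (↑U : Scheme.{u}) (EtCoh.mu ↑U n) 0 ≃+ Additive ↥(rootsOfUnity n k)) ∧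
      ∀ q : ℕ, 2 ≤ q → Subsingleton (EtCoh.H (↑U : Scheme.{u}) (EtCoh.mu ↑U n) q) := by
  haveI : IsLocallyNoetherian X := EtTraceLib.locallyNoetherian_over k (X ↘ Spec (CommRingCat.of k))
  obtain ⟨hint, hdU⟩ := open_setup (k := k) X hdim U hUc
  haveI := hint
  obtain ⟨hgen, -⟩ := exists_closedPoint_of_finite_compl (k := k) X hdim U hUc
  haveI : CompactSpace X := QuasiCompact.compactSpace_of_compactSpace (X ↘ Spec (CommRingCat.of k))
  haveI : IsNoetherian X := {}
  let fU : (U : Scheme.{u}) ⟶ Spec (CommRingCat.of k) := U.ι ≫ (X ↘ Spec (CommRingCat.of k))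
  haveI : IsLocallyNoetherian (U : Scheme.{u}) := LocallyOfFiniteType.isLocallyNoetherian U.ι
  haveI : QuasiCompact fU := inferInstance
  have hepi := Groth.Agent.S0108.result (U : Scheme.{u}) n (isUnit_natCast_gamma fU hnk)
  have hge2 := fun q hq => Groth.Agent.S0227.result k (U : Scheme.{u}) fU hdU q hq
  obtain ⟨x, hx⟩ : ∃ x, x ∉ U := by
    haveI : Nonempty ↥((U : Set X)ᶜ) := (Nat.card_pos_iff.1 (by omega)).1
    exact ⟨(Classical.arbitrary ↥((U : Set X)ᶜ)).1, (Classical.arbitrary ↥((U : Set X)ᶜ)).2⟩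
  have hxc : IsClosed ({x} : Set X) := by
    rcases coheight_eq_one_or_generic X hdim x with h | h
    · exact (EtTraceLib.closed_iff_htOne hdim x).2 (EtTraceLib.coheight_eq_one_iff.1 h)
    · exact absurd (h ▸ hgen) hx
  refine ⟨?_, fun q hq => ?_⟩
  · obtain ⟨a⟩ := nonempty_H0_mu hepi
    obtain ⟨b⟩ := nonempty_torsion_units_equiv (R := Γ((U : Scheme.{u}), ⊤)) (constHom fU) n hn hnk
    exact ⟨a.trans ((torsEquiv (H0Gm (U : Scheme.{u})) n).trans b)⟩
  · obtain ⟨m, rfl⟩ : ∃ m, q = m + 2 := ⟨q - 2, by omega⟩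
    rcases Nat.eq_zero_or_pos m with rfl | hm
    · obtain ⟨a⟩ := nonempty_H2_mu hepi (hge2 2 le_rfl)
      obtain ⟨eP⟩ := nonempty_pic_H1 (U : Scheme.{u})
      refine @Equiv.subsingleton _ _ a.toEquiv (subsingleton_quot_of_divisible n fun z => ?_)
      obtain ⟨b, hb⟩ := exists_pow_eq_pic_open X hdim U x hxc hx n hn hnk (eP.symm z).toMul
      refine ⟨eP (Additive.ofMul b), ?_⟩
      rw [← map_nsmul, ← ofMul_pow, hb, ofMul_toMul, AddEquiv.apply_symm_apply]
    · refine subsingleton_of_forall_eq 0 fun y => ?_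
      obtain ⟨z, hz⟩ := Abelian.Ext.covariant_sequence_exact₁ _ (EtSix.kummerShortExact hepi) y
        (@Subsingleton.elim _ (hge2 (m + 2) (by omega)) _ _) (n₀ := m + 1) rfl
      rw [← hz, @Subsingleton.elim _ (hge2 (m + 1) (by omega)) z 0, Abelian.Ext.zero_comp]

end Groth.Agent.CurveH12
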