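import Groth.Agent.CurveH12.Unram

/-!
# Unramified Kummer theory of a smooth curve, in terms of the function field
-/

set_option autoImplicit false
set_option backward.isDefEq.respectTransparency false
set_option backward.isDefEq.respectTransparency.types false
set_option linter.style.haveILetI false
set_option maxHeartbeats 1000000
set_option synthInstance.maxHeartbeats 400000

universe u

open CategoryTheory CategoryTheory.Limits AlgebraicGeometry Opposite

noncomputable section

namespace Groth.Agent.CurveH12

open EtPtsLib RefOne EtTraceLib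

/-- An equivalence carrying one subgroup to another carries the quotients by multiples. -/
theorem nonempty_subquot_equiv {M N : Type*} [AddCommGroup M] [AddCommGroup N] (e : M ≃+ N) (A : AddSubgroup M)
    (B : AddSubgroup N) (h : ∀ x, x ∈ A ↔ e x ∈ B) (n : ℕ) :
    Nonempty (A ⧸ ((nsmulAddMonoidHom n : M →+ M).range).addSubgroupOf A ≃+
      B ⧸ ((nsmulAddMonoidHom n : N →+ N).range).addSubgroupOf B) := by
  let e' : A ≃+ B :=
    { toFun := fun x => ⟨e x.1, (h x.1).1 x.2⟩
      invFun := fun y => ⟨e.symm y.1, (h _).2 (by rw [e.apply_symm_apply]; exact y.2)⟩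
      left_inv := fun x => Subtype.ext (e.symm_apply_apply x.1)
      right_inv := fun y => Subtype.ext (e.apply_symm_apply y.1)
      map_add' := fun x y => Subtype.ext (map_add e x.1 y.1) }
  refine ⟨QuotientAddGroup.congr _ _ e' ?_⟩
  ext y
  simp only [AddSubgroup.mem_map, AddSubgroup.mem_addSubgroupOf, AddMonoidHom.mem_range, nsmulAddMonoidHom_apply]
  constructor
  · rintro ⟨x, ⟨w, hw⟩, rfl⟩
    exact ⟨e w, by rw [← map_nsmul, hw]; rfl⟩
  · rintro ⟨w, hw⟩
    exact ⟨e'.symm y, ⟨e.symm w, by rw [← map_nsmul, hw]; rfl⟩, e'.apply_symm_apply y⟩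

variable (X : Scheme.{u}) [IsIntegral X] [IsLocallyNoetherian X]

/-- The order at a point on the multiplicative group of the function field. -/
def schOrd (z : X) : Additive (X.functionField : Type u)ˣ →+ ℤ :=
  AddMonoidHom.mk' (fun f => Scheme.ord (show X.functionField from (f.toMul : (X.functionField : Type u)ˣ)) z)
    fun f g => Scheme.ord_mul f.toMul.ne_zero g.toMul.ne_zero

/-- Rational functions with order divisible by `n` in codimension one. -/
def unramSub (n : ℕ) : AddSubgroup (Additive (X.functionField : Type u)ˣ) where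
  carrier := {f | ∀ z : X, Order.coheight z = 1 → (n : ℤ) ∣ schOrd X z f}
  zero_mem' := fun z _ => by rw [map_zero]; exact dvd_zero _
  add_mem' := fun {f g} hf hg z hz => by rw [map_add]; exact dvd_add (hf z hz) (hg z hz)
  neg_mem' := fun {f} hf z hz => by rw [map_neg]; exact dvd_neg.2 (hf z hz)

/-- The unramified classes of `K^×` modulo `n`-th powers. -/
abbrev unramQuot (n : ℕ) : Type u :=
  unramSub X n ⧸ ((nsmulAddMonoidHom n : Additive (X.functionField : Type u)ˣ →+ _).range).addSubgroupOf (unramSub X n)

theorem ordAt_top_eq (hreg : RegularScheme X) (f : RSect (EtCoh.top X)) (z : (EtCoh.top X).left)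
    (hz : Order.coheight z = 1) :
    haveI : IsIntegral (EtCoh.top X).left := inferInstanceAs (IsIntegral X)
    ordAt hreg (EtCoh.top X) f z = Scheme.ord (ρval (EtCoh.top X) f) z := by
  haveI : IsIntegral (EtCoh.top X).left := inferInstanceAs (IsIntegral X)
  have e := ordAt_eq hreg (𝟙 (EtCoh.top X)) f (a := z) hz
  rw [show rRes (𝟙 (EtCoh.top X)) f = f from by
    show (RF X).obj.map (𝟙 (EtCoh.top X)).op f = f
    rw [op_id, CategoryTheory.Functor.map_id]
    rfl] at e
  exact e

omit [IsLocallyNoetherian X] in
theorem coheight_eq_one_or_generic (hdim : topologicalKrullDim X = 1) (z : X) :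
    Order.coheight z = 1 ∨ z = genericPoint X := by
  by_cases hmax : IsMax z
  · exact Or.inr (((show z ⤳ genericPoint X from hmax (genericPoint_specializes z : z ≤ genericPoint X))).antisymm (genericPoint_specializes z)).eq
  · refine Or.inl (le_antisymm ?_ ?_)
    · have h := Order.coheight_le_krullDim z
      rw [show Order.krullDim ↥X = 1 from (DimLiftLib.topologicalKrullDim_eq ↥X).symm.trans hdim] at h
      exact WithBot.coe_le_coe.1 h
    · exact Order.one_le_iff_pos.2 (pos_iff_ne_zero.2 (Order.coheight_ne_zero.2 hmax))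

/-- Unramified Kummer theory. -/
theorem nonempty_H1_mu_unram {k : Type u} [Field k] [IsAlgClosed k] (f : X ⟶ Spec (CommRingCat.of k)) [Smooth f]
    [IsSeparated f] [LocallyOfFiniteType f] [QuasiCompact f] (hdim : topologicalKrullDim X = 1) (n : ℕ) (hn : 1 ≤ n)
    (hnk : (n : k) ≠ 0) : Nonempty (EtCoh.H X (EtCoh.mu X n) 1 ≃+ unramQuot X n) := by
  have hreg := regular_of_smooth_over k f
  haveI : IsIntegral (EtCoh.top X).left := inferInstanceAs (IsIntegral X)
  have hu : IsUnit (n : Γ(X, ⊤)) := by
    rw [← map_natCast ((Scheme.ΓSpecIso (CommRingCat.of k)).inv ≫ f.appTop).hom n]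
    exact (IsUnit.mk0 _ hnk).map _
  haveI : CompactSpace X := QuasiCompact.compactSpace_of_compactSpace f
  obtain ⟨a⟩ := nonempty_H1_mu_divisible hreg n hn hu (coheight_eq_one_or_generic X hdim)
    (S0231.result k X f hdim 1 le_rfl)
  let e : RSect (EtCoh.top X) ≃+ Additive (X.functionField : Type u)ˣ :=
    AddEquiv.ofBijective (ρ (EtCoh.top X)) ⟨ρ_injective _, ρ_surjective _⟩
  obtain ⟨b⟩ := nonempty_subquot_equiv e (divisibleSub hreg n) (unramSub X n) (fun s => by
    refine forall_congr' fun z => forall_congr' fun hz => ?_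
    rw [ordAt_top_eq X hreg s z hz]
    rfl) n
  exact ⟨a.trans b⟩

end Groth.Agent.CurveH12
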