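import Mathlib
import Groth.Agent.RepDualLib

/-!
# Finite abelian groups of exponent `n` with `d ^ R` elements killed by each `d ∣ n`
-/

set_option autoImplicit false

universe u

noncomputable section

namespace Groth.Agent.CurveH12

theorem nonempty_equiv_quotient {A B : Type*} [AddCommGroup A] [AddCommGroup B] (δ : A →+ B) (N : AddSubgroup A)
    (hs : Function.Surjective δ) (hk : δ.ker = N) : Nonempty (B ≃+ A ⧸ N) :=
  ⟨(QuotientAddGroup.quotientKerEquivOfSurjective δ hs).symm.trans (QuotientAddGroup.quotientAddEquivOfEq hk)⟩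

/-- The homomorphism splitting off an element of order `n` from a group killed by `n`. -/
theorem exists_split {G : Type u} [AddCommGroup G] (n : ℕ) [NeZero n] (hG : ∀ x : G, n • x = 0) (a : G)
    (ha : addOrderOf a = n) : ∃ χ : G →+ ZMod n, χ a = 1 := by
  letI : Module (ZMod n) G := AddCommGroup.zmodModule (n := n) hG
  have hinj : Function.Injective (LinearMap.toSpanSingleton (ZMod n) G a) := by
    rw [← LinearMap.ker_eq_bot, LinearMap.ker_eq_bot']
    intro c hc
    rw [LinearMap.toSpanSingleton_apply, ← ZMod.natCast_zmod_val c, Nat.cast_smul_eq_nsmul,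
      ← addOrderOf_dvd_iff_nsmul_eq_zero, ha] at hc
    rw [← ZMod.natCast_zmod_val c, ZMod.natCast_eq_zero_iff]
    exact hc
  obtain ⟨χ, hχ⟩ := (Groth.Agent.RepDualLib.baer_zmod n).extension_property _ hinj LinearMap.id
  refine ⟨χ.toAddMonoidHom, ?_⟩
  have h := LinearMap.congr_fun hχ (1 : ZMod n)
  simpa using h

/-- A finite abelian group of exponent `n` with `d ^ R` elements killed by each `d ∣ n` is `(ℤ/n)^R`. -/
theorem nonempty_equiv_of_card : ∀ (R n : ℕ) [NeZero n] (G : Type u) [AddCommGroup G],
    (∀ x : G, n • x = 0) → (∀ d, d ∣ n → Nat.card {x : G // d • x = 0} = d ^ R) →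
    Nonempty (G ≃+ (Fin R → ZMod n))
  | 0, n, _, G, _, hG, hc => by
    have h : Nat.card G = 1 := by
      rw [← pow_zero n, ← hc n dvd_rfl]
      exact (Nat.card_congr (Equiv.subtypeUnivEquiv hG)).symm
    obtain ⟨hs, -⟩ := Nat.card_eq_one_iff_unique.1 h
    exact ⟨{ toFun := fun _ => 0, invFun := fun _ => 0, left_inv := fun x => hs.elim _ _,
             right_inv := fun x => Subsingleton.elim _ _, map_add' := fun _ _ => (add_zero _).symm }⟩
  | R + 1, n, hn, G, _, hG, hc => by
    have hcard : Nat.card G = n ^ (R + 1) := by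
      rw [← hc n dvd_rfl]
      exact (Nat.card_congr (Equiv.subtypeUnivEquiv hG)).symm
    haveI : Finite G := Nat.finite_of_card_ne_zero (by rw [hcard]; exact pow_ne_zero _ (NeZero.ne n))
    have hedvd : AddMonoid.exponent G ∣ n := AddMonoid.exponent_dvd_iff_forall_nsmul_eq_zero.2 hG
    have he : AddMonoid.exponent G = n := by
      refine Nat.dvd_antisymm hedvd (Nat.dvd_of_mod_eq_zero ?_)
      have h1 : Nat.card G = AddMonoid.exponent G ^ (R + 1) := by
        rw [← hc _ hedvd]
        exact (Nat.card_congr (Equiv.subtypeUnivEquiv fun x => AddMonoid.exponent_nsmul_eq_zero x)).symm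
      rw [hcard] at h1
      rw [← Nat.pow_left_injective (Nat.succ_ne_zero R) h1, Nat.mod_self]
    obtain ⟨a, ha⟩ := AddMonoid.exists_addOrderOf_eq_exponent (AddMonoid.ExponentExists.of_finite (G := G))
    rw [he] at ha
    obtain ⟨χ, hχ⟩ := exists_split n hG a ha
    let K := χ.ker
    have hval : ∀ c : ZMod n, χ (c.val • a) = c := fun c => by
      rw [map_nsmul, hχ, nsmul_eq_mul, mul_one, ZMod.natCast_zmod_val]
    have hsmul : ∀ c d : ZMod n, (c + d).val • a = c.val • a + d.val • a := fun c d => by
      rw [← add_nsmul, ← mod_addOrderOf_nsmul a (c.val + d.val), ZMod.val_add, ha]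
    let E : G ≃+ K × ZMod n :=
      { toFun := fun x => (⟨x - (χ x).val • a, by rw [AddMonoidHom.mem_ker, map_sub, hval, sub_self]⟩, χ x)
        invFun := fun p => p.1.1 + p.2.val • a
        left_inv := fun x => sub_add_cancel _ _
        right_inv := fun p => by
          have h : χ (p.1.1 + p.2.val • a) = p.2 := by rw [map_add, hval, show χ p.1.1 = 0 from p.1.2, zero_add]
          exact Prod.ext (Subtype.ext (by simp [h])) h
        map_add' := fun x y => by
          refine Prod.ext (Subtype.ext ?_) (map_add χ x y)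
          show x + y - (χ (x + y)).val • a = _
          rw [map_add, hsmul]
          simp only [Prod.fst_add, AddSubgroup.coe_add]
          abel }
    have hK : ∀ d, d ∣ n → Nat.card {x : K // d • x = 0} = d ^ R := fun d hd => by
      have hd0 : 0 < d := Nat.pos_of_dvd_of_pos hd (NeZero.pos n)
      have h2 : Nat.card {x : ZMod n // d • x = 0} = d := by
        have h := IsAddCyclic.card_nsmulAddMonoidHom_ker (G := ZMod n) d
        rw [Nat.card_zmod, Nat.gcd_eq_right hd] at h
        exact h
      let e : {x : G // d • x = 0} ≃ {x : K // d • x = 0} × {x : ZMod n // d • x = 0} :=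
        (E.toEquiv.subtypeEquiv fun x => show d • x = 0 ↔ d • (E x).1 = 0 ∧ d • (E x).2 = 0 from
          ⟨fun h => by
            have h' : d • E x = 0 := by rw [← map_nsmul, h, map_zero]
            exact ⟨congrArg Prod.fst h', congrArg Prod.snd h'⟩,
          fun h => E.injective (by rw [map_nsmul, map_zero]; exact Prod.ext h.1 h.2)⟩).trans
          (Equiv.subtypeProdEquivProd (p := fun x : K => d • x = 0) (q := fun c : ZMod n => d • c = 0))
      have := (Nat.card_congr e).symm.trans (hc d hd)
      rw [Nat.card_prod, h2, pow_succ] at this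
      exact Nat.eq_of_mul_eq_mul_right hd0 this
    obtain ⟨e⟩ := nonempty_equiv_of_card R n K (fun x => Subtype.ext (hG x.1)) hK
    exact ⟨E.trans ((e.prodCongr (AddEquiv.refl _)).trans
      { toFun := fun p => Fin.snoc p.1 p.2
        invFun := fun v => (Fin.init v, v (Fin.last R))
        left_inv := fun p => Prod.ext (Fin.init_snoc (α := fun _ => ZMod n) _ _) (Fin.snoc_last (α := fun _ => ZMod n) _ _)
        right_inv := fun v => Fin.snoc_init_self v
        map_add' := fun p q => funext fun i => by
          refine Fin.lastCases ?_ (fun j => ?_) i <;> simp })⟩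

end Groth.Agent.CurveH12
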