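import Groth.Agent.CurveH12.Deg
import Groth.Agent.CurveH12.Classify
import Groth.Agent.FF.Degree
import Groth.Agent.FF.Count

/-!
# Functions with divisor divisible by `n` outside a finite set, modulo `n`-th powers
-/

set_option autoImplicit false
set_option backward.isDefEq.respectTransparency false
set_option backward.isDefEq.respectTransparency.types false
set_option linter.style.haveILetI false
set_option maxHeartbeats 1000000
set_option synthInstance.maxHeartbeats 400000

universe u

open CategoryTheory CategoryTheory.Limits AlgebraicGeometry FunFld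
open Groth.Agent.PicLib Groth.Agent.JacLib Groth.Agent.CurveFF

noncomputable section

namespace Groth.Agent.CurveH12

attribute [local instance] Curv2.stalkAlgebra
attribute [local instance high] FunFld.Place.algRes

section Field

variable {k : Type u} [Field k] {K : Type u} [Field K] [Algebra k K]

/-- The order at a place on the multiplicative group. -/
def ordHom (P : Place k K) : Additive Kˣ →+ ℤ :=
  AddMonoidHom.mk' (fun f => P.ord ((f.toMul : Kˣ) : K)) fun f g => FF.ord_mul _ f.toMul.ne_zero g.toMul.ne_zero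

/-- Functions with order divisible by `n` outside `T`. -/
def divSub (T : Finset (Place k K)) (n : ℕ) : AddSubgroup (Additive Kˣ) where
  carrier := {f | ∀ P, P ∉ T → (n : ℤ) ∣ ordHom P f}
  zero_mem' := fun P _ => by rw [map_zero]; exact dvd_zero _
  add_mem' := fun {f g} hf hg P hP => by rw [map_add]; exact dvd_add (hf P hP) (hg P hP)
  neg_mem' := fun {f} hf P hP => by rw [map_neg]; exact dvd_neg.2 (hf P hP)

/-- Multiples of `n` inside. -/
abbrev powSub (T : Finset (Place k K)) (n : ℕ) : AddSubgroup (divSub T n) :=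
  ((nsmulAddMonoidHom n : Additive Kˣ →+ _).range).addSubgroupOf (divSub T n)

theorem nsmul_mem_divSub (T : Finset (Place k K)) (n : ℕ) (h : Additive Kˣ) : n • h ∈ divSub T n := fun P _ => by
  rw [map_nsmul, nsmul_eq_mul]
  exact dvd_mul_right _ _

/-- The group of functions with divisor divisible by `n` outside `T`, modulo `n`-th powers. -/
abbrev divQuot (T : Finset (Place k K)) (n : ℕ) : Type u := divSub T n ⧸ powSub T n

theorem nsmul_divQuot (T : Finset (Place k K)) (n : ℕ) (x : divQuot T n) : n • x = 0 := by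
  obtain ⟨f, rfl⟩ := QuotientAddGroup.mk_surjective x
  rw [← QuotientAddGroup.mk_nsmul, QuotientAddGroup.eq_zero_iff]
  exact ⟨f.1, rfl⟩

variable [IsAlgClosed k] (hK : IsFunctionField k K)

include hK in
/-- Functions without zeros and poles are constants, hence divisible by every positive integer. -/
theorem exists_nsmul_eq_of_ord_zero {m : ℕ} (hm : 0 < m) {f : Additive Kˣ} (hf : ∀ P : Place k K, ordHom P f = 0) :
    ∃ c : Additive Kˣ, m • c = f ∧ ∀ P : Place k K, ordHom P c = 0 := by
  have hmem : ((f.toMul : Kˣ) : K) ∈ (L (0 : Divisor k K)) :=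
    (FF.mem_L_iff_ord f.toMul.ne_zero).2 fun P => by
      rw [Finsupp.zero_apply, add_zero]
      exact (hf P).ge
  rw [FF.L_zero hK] at hmem
  obtain ⟨c, hc⟩ := Submodule.mem_one.1 hmem
  obtain ⟨r, hr⟩ := IsAlgClosed.exists_pow_nat_eq c hm
  have hr0 : algebraMap k K r ≠ 0 := by
    intro h0
    refine f.toMul.ne_zero ?_
    rw [← hc, ← hr, map_pow, h0, zero_pow hm.ne']
  refine ⟨Additive.ofMul (Units.mk0 _ hr0), congrArg Additive.ofMul (show Units.mk0 _ hr0 ^ m = f.toMul from
    Units.ext ?_), fun P => ?_⟩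
  · rw [Units.val_pow_eq_pow_val, Units.val_mk0, ← map_pow, hr, hc]
  · exact FF.ord_algebraMap P r

include hK in
/-- The elements killed by a divisor `d` of `n` come from level `d`. -/
theorem natCard_torsion (T : Finset (Place k K)) {n d : ℕ} (hn : 0 < n) (hd : d ∣ n) :
    Nat.card {x : divQuot T n // d • x = 0} = Nat.card (divQuot T d) := by
  obtain ⟨e, rfl⟩ := hd
  have he : 0 < e := pos_of_mul_pos_right hn (Nat.zero_le _)
  have hd0 : 0 < d := pos_of_mul_pos_left hn (Nat.zero_le _)
  have hmem : ∀ f : divSub T d, e • f.1 ∈ divSub T (d * e) := fun f P hP => by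
    rw [map_nsmul, nsmul_eq_mul, Nat.cast_mul, mul_comm (d : ℤ)]
    exact mul_dvd_mul_left _ (f.2 P hP)
  let a : divSub T d →+ divQuot T (d * e) :=
    (QuotientAddGroup.mk' _).comp (((nsmulAddMonoidHom e).comp (divSub T d).subtype).codRestrict _ hmem)
  have ha : powSub T d ≤ a.ker := by
    rintro f ⟨h, hh⟩
    have hh' : d • h = f.1 := hh
    refine (QuotientAddGroup.eq_zero_iff _).2 ⟨h, ?_⟩
    show (d * e) • h = e • f.1
    rw [← hh', ← mul_nsmul]
  let b : divQuot T d →+ divQuot T (d * e) := QuotientAddGroup.lift _ a ha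
  have hb : Function.Injective b := by
    refine (injective_iff_map_eq_zero b).2 fun x hx => ?_
    obtain ⟨f, rfl⟩ := QuotientAddGroup.mk_surjective x
    obtain ⟨h, hh⟩ := (QuotientAddGroup.eq_zero_iff _).1 (show a f = 0 from hx)
    have hh' : (d * e) • h = e • f.1 := hh
    have hz : ∀ P : Place k K, ordHom P (f.1 - d • h) = 0 := fun P => by
      have h1 := congrArg (ordHom P) hh'
      simp only [map_nsmul, nsmul_eq_mul, Nat.cast_mul] at h1
      rw [map_sub, map_nsmul, nsmul_eq_mul]
      have : (e : ℤ) * (ordHom P f.1 - d * ordHom P h) = 0 := by linear_combination -h1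
      exact (mul_eq_zero.1 this).resolve_left (by exact_mod_cast he.ne')
    obtain ⟨c, hc, -⟩ := exists_nsmul_eq_of_ord_zero hK hd0 hz
    exact (QuotientAddGroup.eq_zero_iff _).2 ⟨h + c, show d • (h + c) = f.1 by rw [nsmul_add, hc, add_sub_cancel]⟩
  refine (Nat.card_eq_of_bijective (fun x => (⟨b x, by rw [← map_nsmul, nsmul_divQuot, map_zero]⟩ :
    {x : divQuot T (d * e) // d • x = 0})) ⟨fun x y h => hb (congrArg Subtype.val h), ?_⟩).symm
  rintro ⟨x, hx⟩
  obtain ⟨f, rfl⟩ := QuotientAddGroup.mk_surjective x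
  rw [← QuotientAddGroup.mk_nsmul, QuotientAddGroup.eq_zero_iff] at hx
  obtain ⟨h, hh⟩ := hx
  have hh' : (d * e) • h = d • f.1 := hh
  have hz : ∀ P : Place k K, ordHom P (f.1 - e • h) = 0 := fun P => by
    have h1 := congrArg (ordHom P) hh'
    simp only [map_nsmul, nsmul_eq_mul, Nat.cast_mul] at h1
    rw [map_sub, map_nsmul, nsmul_eq_mul]
    have : (d : ℤ) * (ordHom P f.1 - e * ordHom P h) = 0 := by linear_combination -h1
    exact (mul_eq_zero.1 this).resolve_left (by exact_mod_cast hd0.ne')
  obtain ⟨c, hc, -⟩ := exists_nsmul_eq_of_ord_zero hK he hz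
  have hfe : e • (h + c) = f.1 := by rw [nsmul_add, hc, add_sub_cancel]
  have hmem' : h + c ∈ divSub T d := fun P hP => by
    have h1 := f.2 P hP
    rw [← hfe, map_nsmul, nsmul_eq_mul, Nat.cast_mul, mul_comm (d : ℤ)] at h1
    exact (mul_dvd_mul_iff_left (show (e : ℤ) ≠ 0 by exact_mod_cast he.ne')).1 h1
  exact ⟨QuotientAddGroup.mk (⟨h + c, hmem'⟩ : divSub T d),
    Subtype.ext (congrArg QuotientAddGroup.mk (Subtype.ext hfe))⟩

end Field

section Curve

variable {k : Type u} [Field k] [IsAlgClosed k] (X : Scheme.{u}) [X.Over (Spec (CommRingCat.of k))]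
  [IsProper (X ↘ Spec (CommRingCat.of k))] [Smooth (X ↘ Spec (CommRingCat.of k))] [IsIntegral X]
  (hdim : topologicalKrullDim X = 1)

include hdim in
/-- The class of a divisor. -/
theorem exists_clHom [VBLib.IsRegCurve X] (h0 : Module.finrank k (Coh.HH X (Coh.structureModule X) 0) = 1) :
    ∃ cl : Divisor k X.functionField →+ Additive (Pic X), Function.Surjective cl ∧
      ∀ D, cl D = 0 ↔ ∃ z : X.functionField, z ≠ 0 ∧ div k z = D := by
  have hK := isFunctionField k hdim h0
  have hex : ∀ D : Divisor k X.functionField, ∃ c : Pic X, HasDiv k hdim c D := by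
    intro D
    induction D using Finsupp.induction with
    | zero => exact ⟨1, hasDiv_one hdim⟩
    | single_add P m D _ _ ih =>
      obtain ⟨c, hc⟩ := ih
      obtain ⟨x, hx, rfl⟩ := placeOf_surjective hdim P
      suffices ∃ e : Pic X, HasDiv k hdim e (Finsupp.single (placeOf k hdim x hx) m) by
        obtain ⟨e, he⟩ := this
        exact ⟨e * c, hasDiv_mul hdim he hc⟩
      have hp := hasDiv_ptc hdim h0 x hx
      have hn : ∀ j : ℕ, ∃ e : Pic X, HasDiv k hdim e (Finsupp.single (placeOf k hdim x hx) (j : ℤ)) := by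
        intro j
        induction j with
        | zero => exact ⟨1, by rw [Nat.cast_zero, Finsupp.single_zero]; exact hasDiv_one hdim⟩
        | succ j ih' =>
          obtain ⟨e, he⟩ := ih'
          exact ⟨e * _, by rw [Nat.cast_succ, Finsupp.single_add]; exact hasDiv_mul hdim he hp⟩
      obtain ⟨j, rfl | rfl⟩ := m.eq_nat_or_neg
      · exact hn j
      · obtain ⟨e, he⟩ := hn j
        exact ⟨e⁻¹, by rw [Finsupp.single_neg]; exact hasDiv_inv hdim h0 he⟩
  choose c hc using hex
  have hu : ∀ {D : Divisor k X.functionField} {e : Pic X}, HasDiv k hdim e D → c D = e := fun {D e} he =>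
    (eq_iff_of_hasDiv hdim h0 (hc D) he).2 (by rw [sub_self]; exact zero_mem _)
  refine ⟨AddMonoidHom.mk' (fun D => Additive.ofMul (c D)) fun D E =>
    congrArg Additive.ofMul (hu (hasDiv_mul hdim (hc D) (hc E))), fun a => ?_, fun D => ?_⟩
  · obtain ⟨D, hD⟩ := exists_hasDiv hdim h0 a.toMul
    exact ⟨D, congrArg Additive.ofMul (hu hD)⟩
  · rw [← FF.mem_prinDivs_iff hK]
    show c D = 1 ↔ _
    rw [eq_comm, eq_iff_of_hasDiv hdim h0 (hasDiv_one hdim) (hc D), sub_zero]

include hdim in
/-- The order of the group of functions with divisor divisible by `n` outside `T`, modulo `n`-th powers. -/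
theorem natCard_divQuot (T : Finset (Place k X.functionField)) (r : ℕ) (hr : T.card = r + 1) (n : ℕ) (hn : 1 ≤ n)
    (hnk : (n : k) ≠ 0) : Nat.card (divQuot T n) = n ^ (2 * Curv2.genus k X + r) := by
  classical
  haveI : NeZero n := ⟨by omega⟩
  obtain ⟨hreg, h0⟩ := JacLib.setup_sepClosed (k := k) hdim
  haveI := hreg
  have hK := isFunctionField k hdim h0
  obtain ⟨cl, hcls, hclk⟩ := exists_clHom X hdim h0
  obtain ⟨d, hds, hdeg⟩ := exists_degHom (k := k) (C := X) hdim h0
  obtain ⟨⟨eT⟩, ψ, hψs, hψk⟩ := pic_torsion_cotorsion X hdim n hn hnk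
  have hord : ∀ (f : Additive (X.functionField : Type u)ˣ) (P : Place k X.functionField),
      div k (f.toMul : X.functionField) P = ordHom P f := fun f P => FF.div_apply hK _ P
  have hdegcl : ∀ D, cl D = 0 → D.deg = 0 := fun D hD => by
    obtain ⟨z, -, rfl⟩ := (hclk D).1 hD
    exact FF.deg_div hK z
  -- a divisor of degree divisible by `n` is `n` times a class
  have hcot : ∀ D : Divisor k X.functionField, (n : ℤ) ∣ D.deg → ∃ E, cl D = n • cl E := by
    let N : AddSubgroup (Additive (Pic X)) := (nsmulAddMonoidHom n : Additive (Pic X) →+ _).range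
    obtain ⟨e⟩ := nonempty_equiv_quotient ψ N hψs hψk
    haveI : Finite (Additive (Pic X) ⧸ N) := Finite.of_equiv _ e.toEquiv
    let α : Divisor k X.functionField →+ ZMod n :=
      (Int.castAddHom (ZMod n)).comp (AddMonoidHom.mk' (fun D => D.deg) FF.deg_add)
    let β : Divisor k X.functionField →+ Additive (Pic X) ⧸ N := (QuotientAddGroup.mk' N).comp cl
    have hβ : Function.Surjective β := (QuotientAddGroup.mk'_surjective N).comp hcls
    have hker : β.ker ≤ α.ker := by
      intro D hD
      obtain ⟨a, ha⟩ := (QuotientAddGroup.eq_zero_iff _).1 (show QuotientAddGroup.mk' N (cl D) = 0 from hD)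
      obtain ⟨E, rfl⟩ := hcls a
      have h1 : cl (n • E - D) = 0 := by
        rw [map_sub, map_nsmul]
        exact sub_eq_zero.2 ha
      have h2 := hdegcl _ h1
      rw [FF.deg_sub, ← natCast_zsmul, FF.deg_smul, sub_eq_zero] at h2
      show ((D.deg : ℤ) : ZMod n) = 0
      rw [← h2, Int.cast_mul, Int.cast_natCast, ZMod.natCast_self, zero_mul]
    let γ : Additive (Pic X) ⧸ N →+ ZMod n := β.liftOfSurjective hβ ⟨α, hker⟩
    have hγβ : ∀ D, γ (β D) = α D := fun D => AddMonoidHom.liftOfRightInverse_comp_apply β _ _ ⟨α, hker⟩ D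
    have hγs : Function.Surjective γ := fun c => by
      obtain ⟨x, -⟩ := exists_closed_not_mem k hdim ∅
      refine ⟨β (Finsupp.single (placeOf k hdim x.1 x.2) (c.val : ℤ)), ?_⟩
      rw [hγβ]
      show ((FunFld.Divisor.deg _ : ℤ) : ZMod n) = c
      rw [FF.deg_single, deg_place hdim h0, Nat.cast_one, mul_one, Int.cast_natCast, ZMod.natCast_zmod_val]
    have hγi : Function.Injective γ :=
      ((Nat.bijective_iff_surjective_and_card γ).2 ⟨hγs, (Nat.card_congr e.toEquiv).symm.trans rfl⟩).1
    intro D hD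
    have hβD : β D = 0 := hγi (by
      rw [hγβ, map_zero]
      exact (ZMod.intCast_zmod_eq_zero_iff_dvd _ _).2 hD)
    obtain ⟨a, ha⟩ := (QuotientAddGroup.eq_zero_iff _).1 (show QuotientAddGroup.mk' N (cl D) = 0 from hβD)
    obtain ⟨E, rfl⟩ := hcls a
    exact ⟨E, ha.symm⟩
  -- the residues along `T`
  let ρ : divSub T n →+ ({P // P ∈ T} → ZMod n) :=
    AddMonoidHom.mk' (fun f P => ((ordHom P.1 f.1 : ℤ) : ZMod n))
      fun f g => funext fun P => by simp [map_add]
  let sumT : ({P // P ∈ T} → ZMod n) →+ ZMod n := AddMonoidHom.mk' (fun v => ∑ P, v P)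
    fun v w => Finset.sum_add_distrib
  have hdegT : ∀ D : Divisor k X.functionField,
      (∀ P, P ∉ T → (n : ℤ) ∣ D P) → ((D.deg : ℤ) : ZMod n) = ∑ P : {P // P ∈ T}, ((D P.1 : ℤ) : ZMod n) := by
    intro D hD
    rw [FunFld.Divisor.deg, Finsupp.sum, Int.cast_sum, Finset.sum_coe_sort T (fun P => ((D P : ℤ) : ZMod n))]
    refine Eq.trans ?_ (Eq.symm (Finset.sum_subset Finset.subset_union_right (s₂ := D.support ∪ T) ?_))
    · rw [Finset.sum_subset (Finset.subset_union_left (s₂ := T))]
      · exact Finset.sum_congr rfl fun P _ => by rw [deg_place hdim h0, Nat.cast_one, mul_one]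
      · intro P _ hP
        rw [Finsupp.notMem_support_iff.1 hP, zero_mul, Int.cast_zero]
    · intro P _ hP
      exact (ZMod.intCast_zmod_eq_zero_iff_dvd _ _).2 (hD P hP)
  have hρim : ∀ v, (∃ f, ρ f = v) ↔ sumT v = 0 := by
    intro v
    constructor
    · rintro ⟨f, rfl⟩
      have h := hdegT (div k (f.1.toMul : X.functionField)) (fun P hP => by rw [hord]; exact f.2 P hP)
      rw [FF.deg_div hK, Int.cast_zero] at h
      simp only [hord] at h
      exact h.symm
    · intro hv
      let D : Divisor k X.functionField := ∑ P : {P // P ∈ T}, Finsupp.single P.1 ((v P).val : ℤ)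
      have hDP : ∀ P : {P // P ∈ T}, D P.1 = ((v P).val : ℤ) := fun P => by
        simp only [D, Finsupp.finsetSum_apply]
        rw [Finset.sum_eq_single P (fun Q _ hQ => Finsupp.single_eq_of_ne fun h => hQ (Subtype.ext h).symm)
          (fun h => absurd (Finset.mem_univ P) h), Finsupp.single_eq_same]
      have hDout : ∀ P, P ∉ T → D P = 0 := fun P hP => by
        simp only [D, Finsupp.finsetSum_apply]
        exact Finset.sum_eq_zero fun Q _ => Finsupp.single_eq_of_ne fun h => hP (by rw [h]; exact Q.2)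
      have hDdeg : (n : ℤ) ∣ D.deg := by
        rw [← ZMod.intCast_zmod_eq_zero_iff_dvd, hdegT D fun P hP => by rw [hDout P hP]; exact dvd_zero _]
        simp only [hDP, Int.cast_natCast, ZMod.natCast_zmod_val]
        exact hv
      obtain ⟨E, hE⟩ := hcot D hDdeg
      obtain ⟨z, hz, hzD⟩ := (hclk (D - n • E)).1 (by rw [map_sub, map_nsmul, hE, sub_self])
      let f : Additive (X.functionField : Type u)ˣ := Additive.ofMul (Units.mk0 z hz)
      have hfP : ∀ P, ordHom P f = D P - n * E P := fun P => by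
        rw [← hord f P]
        show div k z P = _
        rw [hzD, Finsupp.sub_apply, Finsupp.smul_apply, nsmul_eq_mul]
      refine ⟨⟨f, fun P hP => by rw [hfP, hDout P hP]; exact ⟨-E P, by ring⟩⟩, funext fun P => ?_⟩
      show ((ordHom P.1 f : ℤ) : ZMod n) = v P
      rw [hfP, hDP, Int.cast_sub, Int.cast_mul, Int.cast_natCast, Int.cast_natCast, ZMod.natCast_self, zero_mul,
        sub_zero, ZMod.natCast_zmod_val]
  have hρpow : powSub T n ≤ ρ.ker := by
    rintro f ⟨h, hh⟩
    refine funext fun P => ?_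
    show ((ordHom P.1 f.1 : ℤ) : ZMod n) = 0
    rw [← show n • h = f.1 from hh, map_nsmul, nsmul_eq_mul, Int.cast_mul, Int.cast_natCast, ZMod.natCast_self, zero_mul]
  let ρ' : divQuot T n →+ ({P // P ∈ T} → ZMod n) := QuotientAddGroup.lift _ ρ hρpow
  -- the kernel is the torsion of the Picard group
  let A : AddSubgroup (divSub T n) := ρ.ker
  have hA : ∀ (f : A) P, (n : ℤ) ∣ ordHom P f.1.1 := fun f P => by
    by_cases hP : P ∈ T
    · exact (ZMod.intCast_zmod_eq_zero_iff_dvd _ _).1 (congrFun f.2 ⟨P, hP⟩)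
    · exact f.1.2 P hP
  let half : A →+ Divisor k X.functionField := AddMonoidHom.mk'
    (fun f => (div k (f.1.1.toMul : X.functionField)).mapRange (fun m => m / (n : ℤ)) (Int.zero_ediv _))
    fun f g => by
      ext P
      simp only [Finsupp.mapRange_apply, Finsupp.add_apply, hord]
      rw [show ordHom P (f + g).1.1 = ordHom P f.1.1 + ordHom P g.1.1 from map_add _ _ _]
      exact Int.add_ediv_of_dvd_left (hA f P)
  have hhalf : ∀ f : A, n • half f = div k (f.1.1.toMul : X.functionField) := fun f => by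
    ext P
    rw [Finsupp.smul_apply, nsmul_eq_mul, hord]
    show (n : ℤ) * ((div k (f.1.1.toMul : X.functionField)) P / n) = _
    rw [hord]
    exact Int.mul_ediv_cancel' (hA f P)
  let θ : A →+ (nsmulAddMonoidHom n : Additive (Pic X) →+ _).ker := (cl.comp half).codRestrict _ fun f => by
    show n • cl (half f) = 0
    rw [← map_nsmul, hhalf]
    exact (hclk _).2 ⟨_, f.1.1.toMul.ne_zero, rfl⟩
  have hθs : Function.Surjective θ := by
    rintro ⟨a, ha⟩
    obtain ⟨E, rfl⟩ := hcls a
    have ha' : n • cl E = 0 := ha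
    obtain ⟨z, hz, hzE⟩ := (hclk (n • E)).1 (by rw [map_nsmul, ha'])
    let f : Additive (X.functionField : Type u)ˣ := Additive.ofMul (Units.mk0 z hz)
    have hfP : ∀ P, ordHom P f = n * E P := fun P => by
      rw [← hord f P]
      show div k z P = _
      rw [hzE, Finsupp.smul_apply, nsmul_eq_mul]
    let f' : divSub T n := ⟨f, fun P _ => ⟨E P, hfP P⟩⟩
    have hf' : f' ∈ A := funext fun P => (ZMod.intCast_zmod_eq_zero_iff_dvd _ _).2 ⟨E P.1, hfP P.1⟩
    refine ⟨⟨f', hf'⟩, Subtype.ext (congrArg cl (Finsupp.ext fun P => ?_))⟩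
    show (div k (f.toMul : X.functionField)) P / n = E P
    rw [hord, hfP, Int.mul_ediv_cancel_left _ (by exact_mod_cast NeZero.ne n)]
  have hθk : θ.ker = (powSub T n).addSubgroupOf A := by
    ext f
    constructor
    · intro hf
      obtain ⟨h, hh, hhd⟩ := (hclk (half f)).1 (congrArg Subtype.val hf)
      let h' : Additive (X.functionField : Type u)ˣ := Additive.ofMul (Units.mk0 h hh)
      have hz : ∀ P : Place k X.functionField, ordHom P (f.1.1 - n • h') = 0 := fun P => by
        rw [map_sub, map_nsmul, ← hord h', ← hord f.1.1, ← hhalf, Finsupp.smul_apply]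
        show n • half f P - n • div k h P = 0
        rw [hhd, sub_self]
      obtain ⟨c, hc, -⟩ := exists_nsmul_eq_of_ord_zero hK (Nat.pos_of_ne_zero (NeZero.ne n)) hz
      exact ⟨h' + c, show n • (h' + c) = f.1.1 by rw [nsmul_add, hc, add_sub_cancel]⟩
    · rintro ⟨h, hh⟩
      have hh' : n • h = f.1.1 := hh
      refine Subtype.ext ((hclk (half f)).2 ⟨(h.toMul : X.functionField), h.toMul.ne_zero, Finsupp.ext fun P => ?_⟩)
      show _ = (div k (f.1.1.toMul : X.functionField)) P / n
      rw [hord, hord, ← hh', map_nsmul, nsmul_eq_mul, Int.mul_ediv_cancel_left _ (by exact_mod_cast NeZero.ne n)]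
  -- counting
  obtain ⟨eA⟩ := nonempty_equiv_quotient θ _ hθs hθk
  let incl : A ⧸ (powSub T n).addSubgroupOf A →+ ρ'.ker :=
    (QuotientAddGroup.map _ (powSub T n) A.subtype le_rfl).codRestrict _ fun x => by
      obtain ⟨f, rfl⟩ := QuotientAddGroup.mk_surjective x
      exact f.2
  have hincl : Function.Bijective incl := by
    refine ⟨(injective_iff_map_eq_zero incl).2 fun x hx => ?_, ?_⟩
    · obtain ⟨f, rfl⟩ := QuotientAddGroup.mk_surjective x
      exact (QuotientAddGroup.eq_zero_iff _).2
        ((QuotientAddGroup.eq_zero_iff f.1).1 (congrArg Subtype.val hx))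
    · rintro ⟨y, hy⟩
      obtain ⟨f, rfl⟩ := QuotientAddGroup.mk_surjective y
      exact ⟨QuotientAddGroup.mk (⟨f, hy⟩ : A), rfl⟩
  have hker : Nat.card ρ'.ker = n ^ (2 * Curv2.genus k X) := by
    rw [← Nat.card_eq_of_bijective incl hincl, ← Nat.card_congr eA.toEquiv, Nat.card_congr eT.toEquiv, Nat.card_fun,
      Nat.card_zmod, Nat.card_fin]
  have hrange : ρ'.range = sumT.ker := by
    ext v
    rw [AddMonoidHom.mem_ker, ← hρim v]
    constructor
    · rintro ⟨x, rfl⟩
      obtain ⟨f, rfl⟩ := QuotientAddGroup.mk_surjective x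
      exact ⟨f, rfl⟩
    · rintro ⟨f, rfl⟩
      exact ⟨QuotientAddGroup.mk f, rfl⟩
  have hsum : Nat.card sumT.ker = n ^ r := by
    obtain ⟨P₀, hP₀⟩ := Finset.card_pos.1 (by omega : 0 < T.card)
    have hs : Function.Surjective sumT := fun c => ⟨fun P => if P = ⟨P₀, hP₀⟩ then c else 0, by
      show ∑ P : {P // P ∈ T}, _ = c
      simp⟩
    have h := sumT.ker.card_eq_card_quotient_mul_card_addSubgroup
    rw [Nat.card_congr (QuotientAddGroup.quotientKerEquivOfSurjective sumT hs).toEquiv, Nat.card_fun, Nat.card_zmod,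
      Nat.card_eq_fintype_card, Fintype.card_coe, hr, pow_succ, mul_comm] at h
    exact (Nat.eq_of_mul_eq_mul_left (Nat.pos_of_ne_zero (NeZero.ne n)) h).symm
  rw [ρ'.ker.card_eq_card_quotient_mul_card_addSubgroup, Nat.card_congr (QuotientAddGroup.quotientKerEquivRange ρ').toEquiv,
    hker, hrange, hsum, ← pow_add, add_comm]

include hdim in
/-- The group of functions with divisor divisible by `n` outside `T`, modulo `n`-th powers, is free over `ℤ/n`. -/
theorem nonempty_divQuot_equiv (T : Finset (Place k X.functionField)) (r : ℕ) (hr : T.card = r + 1) (n : ℕ)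
    (hn : 1 ≤ n) (hnk : (n : k) ≠ 0) :
    Nonempty (divQuot T n ≃+ (Fin (2 * Curv2.genus k X + r) → ZMod n)) := by
  haveI : NeZero n := ⟨by omega⟩
  obtain ⟨hreg, h0⟩ := JacLib.setup_sepClosed (k := k) hdim
  haveI := hreg
  have hK := isFunctionField k hdim h0
  refine nonempty_equiv_of_card _ n _ (fun x => nsmul_divQuot T n x) fun d hd => ?_
  rw [natCard_torsion hK T (by omega) hd]
  refine natCard_divQuot X hdim T r hr d (Nat.pos_of_dvd_of_pos hd (by omega)) fun h => hnk ?_
  obtain ⟨e, he⟩ := hd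
  rw [he, Nat.cast_mul, h, zero_mul]

end Curve

end Groth.Agent.CurveH12
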