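import Groth.Agent.CurveH12.Bridge
import Groth.Prelude.Def_W4c1etcurveeff2PicMod
import Groth.Agent.CurveFF.Point
import Mathlib.AlgebraicGeometry.AlgClosed.Basic

/-!
# Pairs `(D, f)` with `n D = div f` modulo `n`-th powers
-/

set_option autoImplicit false
set_option backward.isDefEq.respectTransparency false
set_option backward.isDefEq.respectTransparency.types false
set_option linter.style.haveILetI false
set_option maxHeartbeats 1000000
set_option synthInstance.maxHeartbeats 400000

universe u

open CategoryTheory CategoryTheory.Limits AlgebraicGeometry Opposite W4c1etcurveeff2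

noncomputable section

namespace Groth.Agent.CurveH12

open EtPtsLib RefOne EtTraceLib

variable (X : Scheme.{u}) [IsIntegral X] [IsLocallyNoetherian X]

/-- A rational function has only finitely many zeros and poles in codimension one. -/
theorem finite_schOrd_ne_zero [CompactSpace X] (hreg : RegularScheme X) (g : Additive (X.functionField : Type u)ˣ) :
    {z : X | Order.coheight z = 1 ∧ schOrd X z g ≠ 0}.Finite := by
  haveI : IsIntegral (EtCoh.top X).left := inferInstanceAs (IsIntegral X)
  obtain ⟨s, hs⟩ := exists_ρval_eq (EtCoh.top X)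
    (c := (show X.functionField from (g.toMul : (X.functionField : Type u)ˣ))) (Units.ne_zero _)
  have hz : ∀ z : (EtCoh.top X).left, Order.coheight z = 1 → ordAt hreg (EtCoh.top X) s z = schOrd X z g := fun z h => by
    rw [ordAt_top_eq X hreg s z h, hs]
    rfl
  choose W hW hfin using fun z : (EtCoh.top X).left => exists_finite_nbhd hreg (EtCoh.top X) s z
  haveI : CompactSpace (EtCoh.top X).left := inferInstanceAs (CompactSpace X)
  obtain ⟨t, ht⟩ := (isCompact_univ (X := (EtCoh.top X).left)).elim_finite_subcover (fun z => (W z : Set (EtCoh.top X).left))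
    (fun z => (W z).2) fun z _ => Set.mem_iUnion.2 ⟨z, hW z⟩
  refine ((t.finite_toSet.biUnion fun z _ => hfin z)).subset fun z hzz => ?_
  obtain ⟨w, hw, hzw⟩ := Set.mem_iUnion₂.1 (ht (Set.mem_univ z))
  exact Set.mem_iUnion₂.2 ⟨w, hw, hzw, hzz.1, by rw [hz z hzz.1]; exact hzz.2⟩

theorem closure_eq_self {G : Type*} [AddGroup G] (S : Set G) (P : AddSubgroup G) (h : (P : Set G) = S) :
    AddSubgroup.closure S = P := by
  subst h
  exact AddSubgroup.closure_eq P

/-- Kummer pairs are the unramified classes. -/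
theorem nonempty_kummerPairGrp_equiv {k : Type u} [Field k] [IsAlgClosed k] (c : X ⟶ Spec (CommRingCat.of k))
    [IsSeparated c] [LocallyOfFiniteType c] [Smooth c] [CompactSpace X] (hdim : topologicalKrullDim X = 1) (n : ℕ)
    (hn : 1 ≤ n) : Nonempty (KummerPairGrp c n ≃+ unramQuot X n) := by
  classical
  let F := Additive (X.functionField : Type u)ˣ
  have hn0 : (n : ℤ) ≠ 0 := by exact_mod_cast (by omega : n ≠ 0)
  have hptc : ∀ x : LocSym.Pt c, IsClosed ({x.pt} : Set X) := fun x => by
    haveI : IsClosedImmersion x.1 := by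
      haveI : IsClosedImmersion (x.1 ≫ c) := by rw [x.2]; infer_instance
      exact IsClosedImmersion.of_comp x.1 c
    have h : Set.range x.1 = {x.pt} := by
      ext y
      constructor
      · rintro ⟨p, rfl⟩
        rw [Set.mem_singleton_iff, Subsingleton.elim p (IsLocalRing.closedPoint k)]
        rfl
      · rintro rfl
        exact ⟨_, rfl⟩
    exact h ▸ x.1.isClosedEmbedding.isClosed_range
  have hco : ∀ x : LocSym.Pt c, Order.coheight x.pt = 1 := fun x =>
    coheight_eq_one_iff.2 ((closed_iff_htOne hdim x.pt).1 (hptc x))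
  have hord : ∀ (x : LocSym.Pt c) (g : F), x.ord ((g.toMul : (X.functionField : Type u)ˣ) : X.functionField) =
      schOrd X x.pt g := fun x g => (scheme_ord_eq (hco x) _).symm
  have hinj : Function.Injective (LocSym.Pt.pt : LocSym.Pt c → X) := fun x y h =>
    Subtype.ext (ext_of_apply_closedPoint_eq c x.2 y.2 h)
  have hsurj : ∀ z : X, Order.coheight z = 1 → ∃ x : LocSym.Pt c, x.pt = z := fun z hz => by
    have hzc := (closed_iff_htOne hdim z).2 (coheight_eq_one_iff.1 hz)
    exact ⟨⟨pointOfClosedPoint c z hzc, pointOfClosedPoint_comp c z hzc⟩, pointOfClosedPoint_apply c z hzc _⟩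
  let P : AddSubgroup ((LocSym.Pt c →₀ ℤ) × F) :=
    { carrier := {p | ∀ x : LocSym.Pt c, (n : ℤ) * p.1 x = schOrd X x.pt p.2}
      zero_mem' := fun x => by simp
      add_mem' := fun {p q} hp hq x => by
        show (n : ℤ) * (p.1 + q.1) x = schOrd X x.pt (p.2 + q.2)
        rw [Finsupp.add_apply, mul_add, hp x, hq x, map_add]
      neg_mem' := fun {p} hp x => by
        show (n : ℤ) * (-p.1) x = schOrd X x.pt (-p.2)
        rw [Finsupp.neg_apply, mul_neg, hp x, map_neg] }
  have hP : kummerPairs c n = P := closure_eq_self _ P (Set.ext fun p => forall_congr' fun x => by rw [← hord])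
  let Q : AddSubgroup ((LocSym.Pt c →₀ ℤ) × F) :=
    P ⊓ ((nsmulAddMonoidHom n : F →+ F).range).comap (AddMonoidHom.snd _ _)
  have hQ : kummerPairsPow c n = Q := closure_eq_self _ Q (Set.ext fun p => and_congr
    (forall_congr' fun x => by rw [← hord]) ⟨fun ⟨h, hh⟩ => ⟨h.toMul, (congrArg Additive.toMul hh).symm⟩,
      fun ⟨h, hh⟩ => ⟨Additive.ofMul h, (congrArg Additive.ofMul hh).symm⟩⟩)
  have hmem : ∀ p : P, p.1.2 ∈ unramSub X n := fun p z hz => by
    obtain ⟨x, rfl⟩ := hsurj z hz
    exact ⟨_, (p.2 x).symm⟩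
  let φ : kummerPairs c n →+ unramQuot X n :=
    (QuotientAddGroup.mk' _).comp ((((AddMonoidHom.snd _ _).comp P.subtype).codRestrict _ hmem).comp
      (AddSubgroup.inclusion hP.le))
  have hs : Function.Surjective φ := fun y => by
    obtain ⟨⟨f, hf⟩, rfl⟩ := QuotientAddGroup.mk_surjective y
    have hfin : (Function.support fun x : LocSym.Pt c => schOrd X x.pt f / (n : ℤ)).Finite := by
      refine ((finite_schOrd_ne_zero X (regular_of_smooth_over k c) f).preimage hinj.injOn).subset fun x hx => ⟨hco x, ?_⟩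
      intro h0
      exact hx (show schOrd X x.pt f / (n : ℤ) = 0 by rw [h0, Int.zero_ediv])
    have hp : (Finsupp.ofSupportFinite _ hfin, f) ∈ P := fun x => Int.mul_ediv_cancel' (hf x.pt (hco x))
    exact ⟨⟨_, hP.ge hp⟩, rfl⟩
  have hk : φ.ker = (kummerPairsPow c n).addSubgroupOf (kummerPairs c n) := by
    ext p
    rw [AddMonoidHom.mem_ker, AddSubgroup.mem_addSubgroupOf, hQ]
    refine (QuotientAddGroup.eq_zero_iff _).trans ⟨fun h => ⟨hP.le p.2, h⟩, fun h => h.2⟩
  obtain ⟨e⟩ := nonempty_equiv_quot (A := kummerPairs c n) (B := unramQuot X n) φ _ hs hk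
  exact ⟨e.symm⟩

end Groth.Agent.CurveH12
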