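import Groth.Agent.CurveH12.Bridge
import Groth.Agent.CurveH12.Count
import Groth.Agent.LocSymLib.Basic

/-!
# `H^1(U, μ_n)` for an open part of a smooth proper curve
-/

set_option autoImplicit false
set_option backward.isDefEq.respectTransparency false
set_option backward.isDefEq.respectTransparency.types false
set_option linter.style.haveILetI false
set_option maxHeartbeats 1000000
set_option synthInstance.maxHeartbeats 400000

universe u

open CategoryTheory CategoryTheory.Limits AlgebraicGeometry FunFld

noncomputable section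

namespace Groth.Agent.CurveH12

open RefOne EtTraceLib

attribute [local instance] Curv2.stalkAlgebra
attribute [local instance high] FunFld.Place.algRes

theorem surjective_stalkSpecializes_of_eq {X : Scheme.{u}} {x y : X} (h : x = y) (h' : x ⤳ y) :
    Function.Surjective (X.presheaf.stalkSpecializes h') := by
  subst h
  rw [TopCat.Presheaf.stalkSpecializes_refl]
  exact fun a => ⟨a, rfl⟩

theorem bijective_ffEt {A B : Scheme.{u}} [IsIntegral A] [IsIntegral B] (g : A ⟶ B) [IsOpenImmersion g] :
    Function.Bijective (ffEt g) := by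
  refine ⟨(ffEt g).hom.injective, ?_⟩
  rw [ffEt]
  have h2 : Function.Surjective (g.stalkMap (genericPoint A)) :=
    (ConcreteCategory.bijective_of_isIso (g.stalkMap (genericPoint A))).2
  exact h2.comp (surjective_stalkSpecializes_of_eq (map_genericPoint_of_etale g) _)

variable {k : Type u} [Field k] [IsAlgClosed k] (X : Scheme.{u}) [X.Over (Spec (CommRingCat.of k))]
  [IsProper (X ↘ Spec (CommRingCat.of k))] [Smooth (X ↘ Spec (CommRingCat.of k))] [IsIntegral X]
  (hdim : topologicalKrullDim X = 1)

include hdim in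
theorem scheme_ord_eq_place [VBLib.IsRegCurve X] [IsLocallyNoetherian X] (x : X) (hx : IsClosed ({x} : Set X))
    (g : X.functionField) : Scheme.ord g x = (CurveFF.placeOf k hdim x hx).ord g := by
  haveI := CurveFF.isDVR k hdim hx
  have hy : Order.coheight x = 1 := coheight_eq_one_iff.2 ((closed_iff_htOne hdim x).1 hx)
  have h : IsNoetherianRing (X.presheaf.stalk x) ∧ Ring.KrullDimLE 1 (X.presheaf.stalk x) ∧
      Nontrivial (X.presheaf.stalk x) ∧ IsFractionRing (X.presheaf.stalk x) X.functionField :=
    ⟨inferInstance, inferInstance, inferInstance, inferInstance⟩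
  rw [scheme_ord_eq hy, CycAlg.ordFrac, dif_pos h, Ring.ordFrac_eq_valuation_inv]
  show _ = -WithZero.log ((IsDiscreteValuationRing.maximalIdeal (X.presheaf.stalk x)).valuation X.functionField g)
  generalize (IsDiscreteValuationRing.maximalIdeal (X.presheaf.stalk x)).valuation X.functionField g = w
  cases w using WithZero.recZeroCoe with
  | zero => simp
  | coe a =>
    rw [← WithZero.coe_inv]
    rfl

include k hdim in
/-- A nonempty open with finite complement contains the generic point and a closed point. -/
theorem exists_closedPoint_of_finite_compl (U : X.Opens) (hUc : ((U : Set X)ᶜ).Finite) :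
    genericPoint X ∈ U ∧ ∃ x ∈ U, IsClosed ({x} : Set X) := by
  classical
  haveI : JacobsonSpace X := LocallyOfFiniteType.jacobsonSpace (X ↘ Spec (CommRingCat.of k))
  haveI := (JacLib.setup_sepClosed (k := k) (X := X) hdim).1
  obtain ⟨x, hx⟩ := JacLib.exists_closed_not_mem k hdim
    (hUc.preimage (Subtype.val_injective (p := fun x : X => IsClosed ({x} : Set X))).injOn).toFinset
  have hxU : x.1 ∈ U := by
    by_contra h
    exact hx ((Set.Finite.mem_toFinset _).2 h)
  exact ⟨((genericPoint_spec ↥X).specializes (Set.mem_univ x.1)).mem_open U.2 hxU, x.1, hxU, x.2⟩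

include k hdim in
/-- An open with finite complement of a curve has dimension one and is integral. -/
theorem open_setup (U : X.Opens) (hUc : ((U : Set X)ᶜ).Finite) :
    IsIntegral U.toScheme ∧ topologicalKrullDim U.toScheme = 1 := by
  obtain ⟨hgen, x, hxU, hx⟩ := exists_closedPoint_of_finite_compl (k := k) X hdim U hUc
  haveI : Nonempty U.toScheme := ⟨⟨x, hxU⟩⟩
  haveI : IsIntegral U.toScheme := isIntegral_of_isOpenImmersion U.ι
  haveI : IsLocallyNoetherian X := locallyNoetherian_over k (X ↘ Spec (CommRingCat.of k))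
  refine ⟨inferInstance, le_antisymm ?_ ?_⟩
  · rw [← hdim]
    exact U.ι.isOpenEmbedding.isInducing.topologicalKrullDim_le
  · let z : U.toScheme := ⟨x, hxU⟩
    have h1 : Order.coheight z = 1 := by
      rw [coheight_eq_one_iff, (EtStalk.dim_and_regular U.ι z).1]
      exact (closed_iff_htOne hdim x).1 hx
    have h2 := Order.coheight_le_krullDim z
    rw [h1, ← DimLiftLib.topologicalKrullDim_eq] at h2
    exact h2

include hdim in
/-- `H^1(U, μ_n) ≅ (ℤ/n)^{2g+r-1}` for the complement of `r` points of a smooth proper curve. -/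
theorem nonempty_H1_mu_open (U : X.Opens) (r : ℕ) (hr : 1 ≤ r) (hUc : ((U : Set X)ᶜ).Finite)
    (hUr : Nat.card ↥((U : Set X)ᶜ) = r) (n : ℕ) (hn : 1 ≤ n) (hnk : (n : k) ≠ 0) :
    Nonempty (EtCoh.H (↑U : Scheme.{u}) (EtCoh.mu ↑U n) 1 ≃+ (Fin (2 * Curv2.genus k X + r - 1) → ZMod n)) := by
  classical
  obtain ⟨hreg, h0⟩ := JacLib.setup_sepClosed (k := k) (X := X) hdim
  haveI := hreg
  haveI : IsLocallyNoetherian X := locallyNoetherian_over k (X ↘ Spec (CommRingCat.of k))
  obtain ⟨hint, hdU⟩ := open_setup (k := k) X hdim U hUc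
  haveI := hint
  obtain ⟨hgen, -⟩ := exists_closedPoint_of_finite_compl (k := k) X hdim U hUc
  let fU : U.toScheme ⟶ Spec (CommRingCat.of k) := U.ι ≫ (X ↘ Spec (CommRingCat.of k))
  haveI : IsLocallyNoetherian U.toScheme := LocallyOfFiniteType.isLocallyNoetherian U.ι
  haveI : CompactSpace X := QuasiCompact.compactSpace_of_compactSpace (X ↘ Spec (CommRingCat.of k))
  haveI : IsNoetherian X := {}
  haveI : QuasiCompact fU := inferInstance
  haveI : Smooth fU := inferInstance
  obtain ⟨a⟩ := nonempty_H1_mu_unram (U : Scheme.{u}) fU hdU n hn hnk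
  have hcl : ∀ x : ↥((U : Set X)ᶜ), IsClosed ({x.1} : Set X) := fun x => by
    rcases coheight_eq_one_or_generic X hdim x.1 with h | h
    · exact (closed_iff_htOne hdim x.1).2 (coheight_eq_one_iff.1 h)
    · exact absurd (h ▸ hgen) x.2
  haveI := hUc.to_subtype
  let pl : ↥((U : Set X)ᶜ) → Place k X.functionField := fun x => CurveFF.placeOf k hdim x.1 (hcl x)
  have hpl : Function.Injective pl := fun x y h => Subtype.ext (CurveFF.placeOf_injective hdim (hcl x) (hcl y) h)
  let T : Finset (Place k X.functionField) := (Set.finite_range pl).toFinset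
  have hT : T.card = r - 1 + 1 := by
    rw [← Set.ncard_eq_toFinset_card (Set.range pl) (Set.finite_range pl), ← Nat.card_coe_set_eq,
      Nat.card_range_of_injective hpl, hUr]
    omega
  obtain ⟨b⟩ := nonempty_divQuot_equiv X hdim T (r - 1) hT n hn hnk
  let e : Additive (X.functionField : Type u)ˣ ≃+ Additive ((U : Scheme.{u}).functionField : Type u)ˣ :=
    MulEquiv.toAdditive (Units.mapEquiv (RingEquiv.ofBijective (ffEt U.ι).hom (bijective_ffEt U.ι)).toMulEquiv)
  have hnX : Pi1.IsNormalScheme X := NormalRefLib.normal_of_regular (regular_of_smooth_over k (X ↘ Spec (CommRingCat.of k)))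
  have hnU : Pi1.IsNormalScheme (U : Scheme.{u}) := NormalRefLib.normal_of_regular (regular_of_smooth_over k fU)
  have hord : ∀ (f : Additive (X.functionField : Type u)ˣ) (z : U.toScheme) (hz : Order.coheight z = 1)
      (hx : IsClosed ({U.ι z} : Set X)),
      schOrd (U : Scheme.{u}) z (e f) = ordHom (CurveFF.placeOf k hdim (U.ι z) hx) f := fun f z hz hx => by
    show Scheme.ord (show U.toScheme.functionField from ffEt U.ι (f.toMul : (X.functionField : Type u)ˣ)) z = _
    rw [ord_ffEt hnU hnX U.ι hz f.toMul.ne_zero]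
    exact scheme_ord_eq_place X hdim (U.ι z) hx _
  have hiff : ∀ z : U.toScheme, Order.coheight z = 1 ↔ IsClosed ({U.ι z} : Set X) := fun z => by
    rw [coheight_eq_one_iff, (EtStalk.dim_and_regular U.ι z).1, closed_iff_htOne hdim]
  obtain ⟨c⟩ := nonempty_subquot_equiv e (divSub T n) (unramSub (U : Scheme.{u}) n) (fun f => by
    constructor
    · intro hf z hz
      rw [hord f z hz ((hiff z).1 hz)]
      refine hf _ fun hmem => ?_
      obtain ⟨x, hx⟩ := (Set.finite_range pl).mem_toFinset.1 hmem
      exact x.2 (CurveFF.placeOf_injective hdim (hcl x) ((hiff z).1 hz) hx ▸ z.2)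
    · intro hf P hP
      obtain ⟨x, hx, rfl⟩ := CurveFF.placeOf_surjective hdim P
      have hxU : x ∈ U := by
        by_contra h
        exact hP ((Set.finite_range pl).mem_toFinset.2 ⟨⟨x, h⟩, rfl⟩)
      let z : U.toScheme := ⟨x, hxU⟩
      have hz : Order.coheight z = 1 := (hiff z).2 hx
      have h := hf z hz
      rw [hord f z hz hx] at h
      exact h) n
  rw [show 2 * Curv2.genus k X + r - 1 = 2 * Curv2.genus k X + (r - 1) by omega]
  exact ⟨(a.trans c.symm).trans b⟩

end Groth.Agent.CurveH12
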