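import Groth.Agent.EtTraceLib.PicEtale
import Groth.Agent.PicLib.Group

/-!
# `Pic X = H^1(X_et, G_m)` for the group of classes of invertible modules
-/

set_option autoImplicit false
set_option backward.isDefEq.respectTransparency false
set_option backward.isDefEq.respectTransparency.types false
set_option linter.style.haveILetI false

universe u

open CategoryTheory CategoryTheory.Limits AlgebraicGeometry Opposite TopologicalSpace

noncomputable section

namespace Groth.Agent.CurveH12

variable (X : Scheme.{u})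

theorem exists_class (a : PicLib.Pic X) : ∃ x : CohBase.HU (⊤ : X.Opens) (PicDefLib.pUnits (𝟙 X)) 1,
    ∃ (L : X.Modules) (hL : PicF.IsInvertible L), PicLib.cls hL = a ∧ PicDefLib.ClsL (𝟙 X) L x := by
  obtain ⟨L, hL, rfl⟩ := PicLib.exists_cls a
  obtain ⟨x, hx⟩ := PicDefLib.exists_clsL (𝟙 X) hL
  exact ⟨x, L, hL, rfl, hx⟩

variable {X} in
theorem class_eq {a : PicLib.Pic X} {x : CohBase.HU (⊤ : X.Opens) (PicDefLib.pUnits (𝟙 X)) 1} {L : X.Modules}
    {hL : PicF.IsInvertible L} (h : PicLib.cls hL = a) (hx : PicDefLib.ClsL (𝟙 X) L x) :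
    (exists_class X a).choose = x := by
  obtain ⟨M, hM, hM', hy⟩ := (exists_class X a).choose_spec
  obtain ⟨φ⟩ := (PicLib.cls_eq_cls hM hL).1 (hM'.trans h.symm)
  exact hy.unique (𝟙 X) φ hx

/-- The Picard group is the first étale cohomology of `G_m`. -/
theorem nonempty_pic_H1 : Nonempty (Additive (PicLib.Pic X) ≃+ EtCoh.H X (EtCoh.Gm X) 1) := by
  obtain ⟨e⟩ := EtTraceLib.nonempty_H1_Gm_equiv X
  let φ : Additive (PicLib.Pic X) →+ CohBase.HU (⊤ : X.Opens) (PicDefLib.pUnits (𝟙 X)) 1 :=
    AddMonoidHom.mk' (fun a => (exists_class X a.toMul).choose) fun a b => by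
      obtain ⟨L, hL, ha, hx⟩ := (exists_class X a.toMul).choose_spec
      obtain ⟨M, hM, hb, hy⟩ := (exists_class X b.toMul).choose_spec
      refine class_eq (hL := AmpleLib.isInvertible_tensor hL hM) ?_ (hx.tensor (𝟙 X) hL hM hy)
      show PicLib.cls hL * PicLib.cls hM = a.toMul * b.toMul
      rw [ha, hb]
  have hφ : Function.Bijective φ := by
    refine ⟨(injective_iff_map_eq_zero _).2 fun a ha => ?_, fun x => ?_⟩
    · obtain ⟨L, hL, hcls, hx⟩ := (exists_class X a.toMul).choose_spec
      change (exists_class X a.toMul).choose = 0 at ha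
      rw [ha] at hx
      exact congrArg Additive.ofMul (hcls.symm.trans ((PicLib.cls_eq_one hL).2 (hx.triv (𝟙 X))))
    · obtain ⟨L, hL, hx⟩ := PicDefLib.exists_of_class (𝟙 X) x
      exact ⟨Additive.ofMul (PicLib.cls hL), class_eq rfl hx⟩
  exact ⟨(AddEquiv.ofBijective φ hφ).trans e.symm⟩

end Groth.Agent.CurveH12
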