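import Groth.Agent.CurveH12.Kummer
import Groth.Agent.EtTraceLib.CurveDiv
import Groth.Agent.S0231
import Groth.Agent.S0108

/-!
# `H^1(X_et, μ_n)` as functions with divisor divisible by `n`, modulo `n`-th powers
-/

set_option autoImplicit false
set_option backward.isDefEq.respectTransparency false
set_option backward.isDefEq.respectTransparency.types false
set_option linter.style.haveILetI false
set_option maxHeartbeats 1000000
set_option synthInstance.maxHeartbeats 400000

universe u

open CategoryTheory CategoryTheory.Limits AlgebraicGeometry Opposite CategoryTheory.Abelian IsLocalRing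

noncomputable section

namespace Groth.Agent.CurveH12

open EtPtsLib RefOne EtTraceLib

variable {X : Scheme.{u}}

theorem app_nsmul {F G : EtCoh.Ab X} (n : ℕ) (a : F ⟶ G) (V : X.Etale) (t : EtCoh.sect F V) :
    (n • a).hom.app (op V) t = n • a.hom.app (op V) t :=
  map_nsmul (evalHom V t) n a

theorem app_comp {F G K : EtCoh.Ab X} (a : F ⟶ G) (b : G ⟶ K) (V : X.Etale) (t : EtCoh.sect F V) :
    (a ≫ b).hom.app (op V) t = b.hom.app (op V) (a.hom.app (op V) t) := rfl

/-- An epimorphism is surjective on sections locally. -/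
theorem exists_local_lift {F G : EtCoh.Ab X} (a : F ⟶ G) [Epi a] (V : X.Etale) (t : EtCoh.sect G V) (x : V.left) :
    ∃ (W : X.Etale) (g : W ⟶ V) (w : W.left), g.left w = x ∧ ∃ y, a.hom.app (op W) y = G.obj.map g.op t := by
  haveI : Sheaf.IsLocallySurjective a := (Sheaf.isLocallySurjective_iff_epi' AddCommGrpCat.{u + 1} a).2 inferInstance
  obtain ⟨W, g, w, ⟨y, hy⟩, hw⟩ := exists_mem_of_covering
    (Presheaf.imageSieve_mem X.smallEtaleTopology a.hom (U := op V) t) x
  exact ⟨W, g, w, hw, y, hy⟩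

/-- Left exactness of global sections. -/
theorem exists_top_preimage {S : ShortComplex (EtCoh.Ab X)} (hS : S.ShortExact)
    (t : EtCoh.sect S.X₂ (EtCoh.top X)) (ht : S.g.hom.app (op (EtCoh.top X)) t = 0) :
    ∃ q, S.f.hom.app (op (EtCoh.top X)) q = t := by
  let hT := EtCore.topIsTerminal X
  have h : ((Sheaf.H.equiv₀ S.X₂ hT).symm t).comp (Ext.mk₀ S.g) (add_zero 0) = 0 := by
    rw [← Sheaf.H.map_apply, Sheaf.H.equiv₀_symm_naturality]
    erw [ht]
    exact map_zero _
  obtain ⟨y, hy⟩ := Ext.covariant_sequence_exact₂ _ hS _ h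
  refine ⟨Sheaf.H.equiv₀ S.X₁ hT y, ?_⟩
  have e := Sheaf.H.equiv₀_naturality hT S.f y
  rw [Sheaf.H.map_apply, hy] at e
  exact e.trans ((Sheaf.H.equiv₀ S.X₂ hT).apply_symm_apply t)

/-- The connecting map on global sections onto `H^1` when the middle `H^1` vanishes. -/
theorem exists_delta_of_vanish {S : ShortComplex (EtCoh.Ab X)} (hS : S.ShortExact)
    (h1 : Subsingleton (EtCoh.H X S.X₂ 1)) :
    ∃ δ : EtCoh.sect S.X₃ (EtCoh.top X) →+ EtCoh.H X S.X₁ 1, Function.Surjective δ ∧
      ∀ q, δ q = 0 ↔ ∃ t, S.g.hom.app (op (EtCoh.top X)) t = q := by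
  let hT := EtCore.topIsTerminal X
  refine ⟨(hS.extClass.postcomp _ (zero_add 1)).comp (Sheaf.H.equiv₀ S.X₃ hT).symm.toAddMonoidHom, ?_, fun q => ?_⟩
  · intro x
    obtain ⟨y, hy⟩ := Ext.covariant_sequence_exact₁ _ hS x (@Subsingleton.elim _ h1 _ _) (zero_add 1)
    exact ⟨Sheaf.H.equiv₀ S.X₃ hT y, (congrArg (hS.extClass.postcomp _ (zero_add 1))
      ((Sheaf.H.equiv₀ S.X₃ hT).symm_apply_apply y)).trans hy⟩
  · constructor
    · intro h
      obtain ⟨z, hz⟩ := Ext.covariant_sequence_exact₃ _ hS _ (zero_add 1) h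
      refine ⟨Sheaf.H.equiv₀ S.X₂ hT z, ?_⟩
      have e := Sheaf.H.equiv₀_naturality hT S.g z
      rw [Sheaf.H.map_apply, hz] at e
      exact e.trans ((Sheaf.H.equiv₀ S.X₃ hT).apply_symm_apply q)
    · rintro ⟨t, rfl⟩
      show ((Sheaf.H.equiv₀ S.X₃ hT).symm _).comp hS.extClass (zero_add 1) = 0
      rw [← Sheaf.H.equiv₀_symm_naturality, Sheaf.H.map_apply, Ext.comp_assoc_of_second_deg_zero, hS.comp_extClass,
        Ext.comp_zero]

variable [IsIntegral X] [IsLocallyNoetherian X] (hreg : RegularScheme X) (n : ℕ)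

include hreg in
/-- On a normal scheme the `n`-torsion of `j_* G_m` is `μ_n`. -/
theorem exact_muPush (hn : n ≠ 0) :
    ∃ h : (EtCoh.muι X n ≫ EtLim.GmPush (jη X)) ≫ (n • 𝟙 (RF X)) = 0,
      (ShortComplex.mk _ _ h).Exact ∧ Mono (EtCoh.muι X n ≫ EtLim.GmPush (jη X)) := by
  haveI := mono_GmPush hreg
  haveI : Mono (EtCoh.muι X n) := inferInstanceAs (Mono (kernel.ι (EtCoh.powMap X n)))
  have hcond : EtCoh.muι X n ≫ (n • 𝟙 (EtCoh.Gm X)) = 0 := kernel.condition _
  have hw : (EtCoh.muι X n ≫ EtLim.GmPush (jη X)) ≫ (n • 𝟙 (RF X)) = 0 := by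
    rw [Preadditive.comp_nsmul, Category.comp_id, ← Preadditive.nsmul_comp]
    rw [Preadditive.comp_nsmul, Category.comp_id] at hcond
    rw [hcond, zero_comp]
  refine ⟨hw, ShortComplex.exact_of_f_is_kernel _ (KernelFork.IsLimit.ofι' _ _ fun {T} t ht => ?_), mono_comp _ _⟩
  have hex : (ShortComplex.mk _ _ (GmPush_divP hreg)).Exact :=
    exact_of_locally _ fun V s hs z => exists_lift_of_exact hreg V s hs z
  have ht' : n • t = 0 := by simpa using ht
  have htd : t ≫ divP hreg = 0 := by
    refine Pi.hom_ext _ _ fun x => ObjectProperty.hom_ext _ (NatTrans.ext (funext fun V =>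
      ConcreteCategory.hom_ext _ _ fun b => skVal_ext fun w => ?_))
    have h0 : n • t.hom.app (op V.unop) b = 0 := by
      rw [← app_nsmul, ht']
      rfl
    have h1 : ((Pi.π (fun x : HtOne X => Sk X x.1) x).hom.app (op V.unop)
        ((divP hreg).hom.app (op V.unop) (t.hom.app (op V.unop) b))) =
        (dMap hreg x).hom.app (op V.unop) (t.hom.app (op V.unop) b) := π_divP hreg x _ _
    show skVal x.1 V.unop ((Pi.π (fun x : HtOne X => Sk X x.1) x).hom.app (op V.unop)
        ((divP hreg).hom.app (op V.unop) (t.hom.app (op V.unop) b))) w = _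
    rw [h1, skVal_dMap, zero_comp]
    refine Eq.trans ?_ (skVal_zero x.1 V.unop w).symm
    have hhom : ∀ m : ℕ, ordAt hreg V.unop (m • t.hom.app (op V.unop) b) (fibι x.1 V.unop w) =
        m * ordAt hreg V.unop (t.hom.app (op V.unop) b) (fibι x.1 V.unop w) := fun m =>
      (map_nsmul (AddMonoidHom.mk' (fun s => ordAt hreg V.unop s (fibι x.1 V.unop w))
        fun s s' => ordAt_add hreg V.unop s s' _) m _).trans (nsmul_eq_mul _ _)
    have h2 := hhom n
    have h3 := hhom 0
    rw [zero_nsmul, Nat.cast_zero, zero_mul] at h3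
    rw [h0, h3] at h2
    exact (mul_eq_zero.1 h2.symm).resolve_left (Nat.cast_ne_zero.2 hn)
  haveI : Mono (ShortComplex.mk _ _ (GmPush_divP hreg)).f := mono_GmPush hreg
  let y := hex.lift t htd
  have hy : y ≫ EtLim.GmPush (jη X) = t := hex.lift_f t htd
  have hy0 : y ≫ EtCoh.powMap X n = 0 := by
    show y ≫ (n • 𝟙 (EtCoh.Gm X)) = 0
    rw [← cancel_mono (EtLim.GmPush (jη X)), zero_comp, Preadditive.comp_nsmul, Category.comp_id,
      Preadditive.nsmul_comp, hy, ht']
  refine ⟨kernel.lift _ y hy0, ?_⟩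
  rw [← Category.assoc]
  show (kernel.lift _ y hy0 ≫ kernel.ι _) ≫ _ = t
  rw [kernel.lift_ι, hy]

/-- Functions whose order at every point of codimension one is divisible by `n`. -/
def divisibleSub : AddSubgroup (RSect (EtCoh.top X)) where
  carrier := {f | ∀ z : (EtCoh.top X).left, Order.coheight z = 1 → (n : ℤ) ∣ ordAt hreg (EtCoh.top X) f z}
  zero_mem' := fun z _ => by
    have h := ordAt_add hreg (EtCoh.top X) 0 0 z
    rw [add_zero] at h
    rw [show ordAt hreg (EtCoh.top X) 0 z = 0 by linarith]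
    exact dvd_zero _
  add_mem' := fun {f g} hf hg z hz => by
    rw [ordAt_add]
    exact dvd_add (hf z hz) (hg z hz)
  neg_mem' := fun {f} hf z hz => by
    have h := ordAt_add hreg (EtCoh.top X) f (-f) z
    rw [add_neg_cancel] at h
    have h0 := ordAt_add hreg (EtCoh.top X) 0 0 z
    rw [add_zero] at h0
    rw [show ordAt hreg (EtCoh.top X) (-f) z = - ordAt hreg (EtCoh.top X) f z by linarith]
    exact dvd_neg.2 (hf z hz)

include hreg in
/-- A function with orders divisible by `n` is locally a unit times an `n`-th power. -/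
theorem exists_unit_mul_pow (hn : 0 < n) {f : RSect (EtCoh.top X)} (hf : f ∈ divisibleSub hreg n)
    (z : (EtCoh.top X).left) (hcl : Order.coheight z = 1 ∨ z = genericPoint X) :
    ∃ (N : (EtCoh.top X).left.Opens) (_ : z ∈ N) (b : EtCoh.sect (EtCoh.Gm X) (openSub (EtCoh.top X) N))
      (h : RSect (EtCoh.top X)), rRes (openIncl _ N) f =
        (EtLim.GmPush (jη X)).hom.app (op (openSub (EtCoh.top X) N)) b + n • rRes (openIncl _ N) h := by
  haveI : IsIntegral (EtCoh.top X).left := inferInstanceAs (IsIntegral X)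
  let T := EtCoh.top X
  have hnorm := normal_etale hreg T
  let cc := ρval T f
  have hcc : cc ≠ 0 := ρval_ne_zero T f
  obtain ⟨h, a, ha, hca⟩ : ∃ (h : RSect T) (a : T.left.presheaf.stalk z), IsUnit a ∧
      (show T.left.functionField from toK z a) * ρval T h ^ n = cc := by
    rcases hcl with hz | hz
    · obtain ⟨m, hm⟩ := hf z hz
      haveI := isDVR hnorm hz
      obtain ⟨π, hπ⟩ := IsDiscreteValuationRing.exists_irreducible (T.left.presheaf.stalk z)
      have hπ0 : (show T.left.functionField from toK z π) ≠ 0 := toK_ne_zero hπ.ne_zero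
      obtain ⟨h, hh⟩ := exists_ρval_eq T (c := (show T.left.functionField from toK z π) ^ m) (zpow_ne_zero _ hπ0)
      have hord : Scheme.ord cc z = n * m := by
        have e := ordAt_eq hreg (𝟙 T) f (a := z) hz
        rw [show rRes (𝟙 T) f = f from by
          show (RF X).obj.map (𝟙 T).op f = f
          rw [op_id, CategoryTheory.Functor.map_id]
          rfl] at e
        exact e.symm.trans hm
      have hhn : ρval T h ^ n ≠ 0 := pow_ne_zero _ (ρval_ne_zero T h)
      let u : T.left.functionField := cc / ρval T h ^ n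
      have hu : u ≠ 0 := div_ne_zero hcc hhn
      have hu0 : Scheme.ord u z = 0 := by
        have e := Scheme.ord_mul (x := z) hu hhn
        rw [div_mul_cancel₀ cc hhn, hord, ← zpow_natCast, ord_zpow z (ρval_ne_zero T h), hh, ord_zpow z hπ0,
          ord_uniformizer hnorm hz hπ.maximalIdeal_eq] at e
        linarith
      obtain ⟨a, ha⟩ := exists_eq_toK hnorm hz (f := u) (Or.inr hu0.ge)
      obtain ⟨a', ha'⟩ := exists_eq_toK hnorm hz (f := u⁻¹) (Or.inr (by rw [scheme_ord_inv hu, hu0, neg_zero]))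
      refine ⟨h, a, IsUnit.of_mul_eq_one a' (toK_injective z ?_), ?_⟩
      · rw [map_mul, map_one, ha, ha']
        exact mul_inv_cancel₀ hu
      · show (show T.left.functionField from toK z a) * _ = _
        rw [ha]
        exact div_mul_cancel₀ cc hhn
    · obtain rfl : z = genericPoint T.left := hz
      obtain ⟨a, b, hb, hab⟩ := exists_div (genericPoint T.left) cc
      obtain ⟨b', hb'⟩ := (isField_gen (X := T.left)).mul_inv_cancel hb
      have hkb : (show T.left.functionField from toK (genericPoint T.left) (a * b')) = cc := by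
        rw [map_mul, ← hab, mul_comm, ← mul_assoc, ← map_mul, mul_comm b' b, hb', map_one, one_mul]
      refine ⟨0, a * b', ?_, ?_⟩
      · refine (isUnit_iff_ne_zero (G₀ := T.left.functionField)).2 fun h0 => hcc ?_
        rw [← hkb]
        exact (congrArg (toK (genericPoint T.left)) h0).trans (map_zero _)
      · rw [hkb]
        have h0 : ρval T (0 : RSect T) = 1 := ρval_eq_one.2 rfl
        rw [h0, one_pow, mul_one]
  obtain ⟨N₀, hz₀, s₀, rfl⟩ := T.left.presheaf.exists_germ_eq a
  rw [← Scheme.mem_basicOpen T.left s₀ z hz₀] at ha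
  let N := T.left.basicOpen s₀
  let s : Γ(T.left, N) := T.left.presheaf.map (homOfLE (T.left.basicOpen_le s₀)).op s₀
  have hs : IsUnit s := RingedSpace.isUnit_res_basicOpen T.left.toLocallyRingedSpace.toRingedSpace s₀
  have hNgen : genericPoint T.left ∈ N :=
    ((genericPoint_spec T.left).specializes (Set.mem_univ z)).mem_open N.2 ha
  let W := openSub T N
  haveI : IsIntegral W.left := isIntegral_openSub T (z := z) ha
  have hle : (⊤ : W.left.Opens) ≤ (openIncl T N).left ⁻¹ᵁ N := fun w _ => w.2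
  let b : EtCoh.sect (EtCoh.Gm X) W :=
    (ULift.up (Additive.ofMul (hs.map ((openIncl T N).left.appLE N ⊤ hle).hom).unit) :
      ULift.{u + 1} (Additive (Γ(W.left, ⊤) : Type u)ˣ))
  refine ⟨N, ha, b, h, ρval_injective W ?_⟩
  have hpow : ρval W (n • rRes (openIncl T N) h) = ρval W (rRes (openIncl T N) h) ^ n := by
    rw [ρval, ρval, map_nsmul]
    rfl
  rw [ρval_add, hpow, ρval_GmPush, rRes, rRes, ρval_map, ρval_map]
  have hb : W.left.presheaf.germ ⊤ (genericPoint W.left) trivial (gmVal W b : Γ(W.left, ⊤)) =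
      ffEt (openIncl T N).left (toK z (T.left.presheaf.germ N₀ z hz₀ s₀)) := by
    show W.left.presheaf.germ ⊤ (genericPoint W.left) trivial ((openIncl T N).left.appLE N ⊤ hle s) = _
    rw [show T.left.presheaf.germ N₀ z hz₀ s₀ = T.left.presheaf.germ N z ha s from
      (TopCat.Presheaf.germ_res_apply T.left.presheaf (homOfLE (T.left.basicOpen_le s₀)) z ha s₀).symm, toK_germ]
    erw [ffEt_germ]
    simp only [Scheme.Hom.appLE, CommRingCat.comp_apply]
    erw [TopCat.Presheaf.germ_res_apply]
  rw [hb]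
  have e : ffEt (openIncl T N).left (ρval T f) = ffEt (openIncl T N).left
      ((show T.left.functionField from toK z (T.left.presheaf.germ N₀ z hz₀ s₀)) * ρval T h ^ n) := by
    rw [hca]
  refine e.trans ((map_mul (ffEt (openIncl T N).left).hom _ _).trans ?_)
  erw [map_pow]

/-- `H^1(μ_n)` is the group of rational functions with divisor divisible by `n` modulo `n`-th powers. -/
theorem nonempty_H1_mu_divisible (hn : 0 < n) (hu : IsUnit (n : Γ(X, ⊤)))
    (hpts : ∀ z : X, Order.coheight z = 1 ∨ z = genericPoint X)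
    (h1 : Subsingleton (EtCoh.H X (RF X) 1)) :
    Nonempty (EtCoh.H X (EtCoh.mu X n) 1 ≃+ divisibleSub hreg n ⧸
      ((nsmulAddMonoidHom n : RSect (EtCoh.top X) →+ _).range).addSubgroupOf (divisibleSub hreg n)) := by
  obtain ⟨hw, hex, hm⟩ := exact_muPush hreg n hn.ne'
  haveI := hm
  let a := EtCoh.muι X n ≫ EtLim.GmPush (jη X)
  let S₁ : ShortComplex (EtCoh.Ab X) := ShortComplex.mk a (cokernel.π a) (cokernel.condition a)
  have hS₁ : S₁.ShortExact :=
    { exact := ShortComplex.exact_of_g_is_cokernel S₁ (cokernelIsCokernel a), mono_f := hm }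
  let bb : cokernel a ⟶ RF X := cokernel.desc a (n • 𝟙 (RF X)) hw
  haveI hbm : Mono bb := hex.mono_cokernelDesc
  let S₂ : ShortComplex (EtCoh.Ab X) := ShortComplex.mk bb (cokernel.π bb) (cokernel.condition bb)
  have hS₂ : S₂.ShortExact := { exact := ShortComplex.exact_of_g_is_cokernel S₂ (cokernelIsCokernel bb), mono_f := hbm }
  have hπb : ∀ (V : X.Etale) (t : RSect V), bb.hom.app (op V) ((cokernel.π a).hom.app (op V) t) = n • t := fun V t => by
    rw [← app_comp, cokernel.π_desc, app_nsmul]
    rfl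
  let T := EtCoh.top X
  haveI : IsIntegral T.left := inferInstanceAs (IsIntegral X)
  have hmem : ∀ q : EtCoh.sect (cokernel a) T, bb.hom.app (op T) q ∈ divisibleSub hreg n := fun q z hz => by
    obtain ⟨W, g, w, hgw, y, hy⟩ := exists_local_lift (cokernel.π a) T q z
    have e : rRes g (bb.hom.app (op T) q) = n • y := by
      rw [rRes, ← NatTrans.naturality_apply bb.hom g.op q, ← hy, hπb]
    have hk : ringKrullDim (X.presheaf.stalk (str W w)) = 1 := by
      have hs : str W w = str T z := by
        rw [← hgw]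
        exact (congrArg (fun m : W.left ⟶ X => m w) (Over.w g.hom)).symm
      rw [hs]
      exact coheight_str.1 hz
    rw [← hgw, ← ordAt_map hreg g (bb.hom.app (op T) q) hk, e,
      show ordAt hreg W (n • y) w = n • ordAt hreg W y w from map_nsmul
        (AddMonoidHom.mk' (fun s => ordAt hreg W s w) fun s s' => ordAt_add hreg W s s' w) n y, nsmul_eq_mul]
    exact dvd_mul_right _ _
  let φ : EtCoh.sect (cokernel a) T →+ divisibleSub hreg n := (bb.hom.app (op T)).hom.codRestrict _ hmem
  have hφ : Function.Bijective φ := by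
    refine ⟨fun q q' h => injective_app bb T (congrArg Subtype.val h), fun f => ?_⟩
    obtain ⟨q, hq⟩ := exists_top_preimage hS₂ f.1 (sect_ext_cover fun z => by
      obtain ⟨N, hz, b, h, e⟩ := exists_unit_mul_pow hreg n hn f.2 z (hpts z)
      haveI : Epi (EtCoh.powMap X n) := S0108.result X n hu
      obtain ⟨W, g, w, hgw, y, hy⟩ := exists_local_lift (EtCoh.powMap X n) _ b ⟨z, hz⟩
      refine ⟨W, g ≫ openIncl T N, w, congrArg N.ι hgw, ?_⟩
      rw [map_zero, ← NatTrans.naturality_apply (cokernel.π bb).hom]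
      have e2 : rRes (g ≫ openIncl T N) f.1 =
          bb.hom.app (op W) ((cokernel.π a).hom.app (op W)
            ((EtLim.GmPush (jη X)).hom.app (op W) y + rRes g (rRes (openIncl T N) h))) := by
        rw [hπb, nsmul_add, rRes_comp, e, rRes, map_add, map_nsmul, ← NatTrans.naturality_apply, ← hy]
        congr 1
        show (EtLim.GmPush (jη X)).hom.app (op W) ((n • 𝟙 (EtCoh.Gm X)).hom.app (op W) y) = _
        rw [app_nsmul, map_nsmul]
        rfl
      show (cokernel.π bb).hom.app (op W) (rRes (g ≫ openIncl T N) f.1) = 0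
      rw [e2, ← app_comp, cokernel.condition]
      rfl)
    exact ⟨q, Subtype.ext hq⟩
  obtain ⟨δ, hδs, hδk⟩ := exists_delta_of_vanish hS₁ h1
  let e := AddEquiv.ofBijective φ hφ
  refine nonempty_equiv_quot (δ.comp e.symm.toAddMonoidHom) _ (hδs.comp e.symm.surjective) ?_
  ext f
  rw [AddMonoidHom.mem_ker, AddSubgroup.mem_addSubgroupOf, AddMonoidHom.mem_range]
  refine (hδk (e.symm f)).trans ?_
  have hval : bb.hom.app (op T) (e.symm f) = f.1 := congrArg Subtype.val (e.apply_symm_apply f)
  constructor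
  · rintro ⟨t, ht⟩
    refine ⟨t, ?_⟩
    rw [← hval, ← ht]
    exact (hπb T t).symm
  · rintro ⟨t, ht⟩
    refine ⟨t, injective_app bb T ?_⟩
    rw [hval, ← ht]
    exact hπb T t

end Groth.Agent.CurveH12
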